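import Groth.Agent.Dual.K175.FLFDual
import Groth.Agent.Dcoh.ProjFLF
import Groth.Agent.Dcoh.MonTm
import Groth.Agent.Dcoh.MonClosed
import Groth.Agent.LoccohB.GammaD
import Groth.Agent.LoccohB.SectLin303

/-!
# `Hom_{D(O_X)}(L^∨, N[n]) = H^n(X, N ⊗ L)` for `L` finite locally free, linearly and naturally in `L`
-/

set_option autoImplicit false
set_option maxHeartbeats 400000
universe w w' v v' u u'
open CategoryTheory CategoryTheory.Limits AlgebraicGeometry Opposite MonoidalCategory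
attribute [local instance] HasDerivedCategory.standard

namespace K175.FLFExt

open Groth.Agent Groth.Agent.CohqA.ExtCompare Abelian

section nat

variable {C : Type u} [Category.{v} C] [Abelian C] [HasExt.{w} C] [EnoughInjectives C]
  {D : Type u'} [Category.{v'} D] [Abelian D] [HasExt.{w'} D]
  {F G : C ⥤ D} [F.Additive] [PreservesFiniteLimits F] [PreservesFiniteColimits F]
  [G.Additive] [PreservesFiniteLimits G] [PreservesFiniteColimits G] (τ : F ⟶ G)

/-- Naturality of the action of exact functors on Ext. -/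
theorem mapExact_nat (n : ℕ) (A B : C) (y : Ext.{w} A B n) :
    (y.mapExactFunctor F).comp (Ext.mk₀.{w'} (τ.app B)) (add_zero n) =
      (Ext.mk₀.{w'} (τ.app A)).comp (y.mapExactFunctor G) (zero_add n) := by
  induction n generalizing B with
  | zero =>
    obtain ⟨f, rfl⟩ := (Ext.mk₀_bijective _ _).2 y
    rw [Ext.mapExactFunctor_mk₀, Ext.mapExactFunctor_mk₀, Ext.mk₀_comp_mk₀, Ext.mk₀_comp_mk₀, τ.naturality]
  | succ n hn =>
    let I : InjectivePresentation B := Classical.arbitrary _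
    let S := ShortComplex.mk _ _ (cokernel.condition I.f)
    have hI' : Injective S.X₂ := I.injective
    have hS : S.ShortExact := { exact := ShortComplex.exact_cokernel I.f }
    obtain ⟨z, hz⟩ := Ext.covariant_sequence_exact₁ A hS (n₁ := n + 1) (n₀ := n) y
      (Ext.eq_zero_of_injective _) rfl
    have e1 : (hS.extClass.mapExactFunctor F).comp (Ext.mk₀.{w'} (τ.app S.X₁)) (add_zero 1) =
        (Ext.mk₀.{w'} (τ.app S.X₃)).comp (hS.extClass.mapExactFunctor G) (zero_add 1) := by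
      rw [Ext.mapExactFunctor_extClass, Ext.mapExactFunctor_extClass]
      exact ShortComplex.ShortExact.extClass_naturality (hS.map_of_exact F) (hS.map_of_exact G)
        (S.mapNatTrans τ)
    rw [← hz, Ext.mapExactFunctor_comp, Ext.mapExactFunctor_comp,
      Ext.comp_assoc _ _ _ rfl (add_zero 1) (by omega)]
    refine (congrArg (fun t => (z.mapExactFunctor F).comp t rfl) e1).trans ?_
    rw [← Ext.comp_assoc _ _ _ (add_zero n) (zero_add 1) (by omega), hn,
      Ext.comp_assoc _ _ _ (zero_add n) rfl (by omega)]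

theorem compare_nat {P₁ P₂ : C} {Q : D} (c₁ : Q ⟶ F.obj P₁) (c₂ : Q ⟶ G.obj P₂) (v : P₂ ⟶ P₁)
    (h : c₂ ≫ G.map v = c₁ ≫ τ.app P₁) {N : C} {n : ℕ} (x : Ext.{w} P₁ N n) :
    compare G c₂ N n ((Ext.mk₀ v).comp x (zero_add n)) =
      (compare F c₁ N n x).comp (Ext.mk₀.{w'} (τ.app N)) (add_zero n) := by
  rw [compare_apply, compare_apply, Ext.mapExactFunctor_comp, Ext.mapExactFunctor_mk₀,
    Ext.mk₀_comp_mk₀_assoc, h, ← Ext.mk₀_comp_mk₀_assoc, ← mapExact_nat]
  exact (Ext.comp_assoc _ _ _ (zero_add n) (add_zero n) (by omega)).symm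

end nat

section Sch

open scoped Groth.Agent.Dcoh.MonCat
open Groth.Agent.LoccohB

variable {X : Scheme.{u}}

lemma additive_tensorRight (L : X.Modules) : (tensorRight L).Additive where
  map_add {M N f g} := by
    apply Dcoh.MonTm.ext₂
    intro U m l
    change ((f + g) ▷ L).app U (Dcoh.MonTm.tm m l) =
      (f ▷ L).app U (Dcoh.MonTm.tm m l) + (g ▷ L).app U (Dcoh.MonTm.tm m l)
    rw [Dcoh.MonTm.whiskerRight_tm, Dcoh.MonTm.whiskerRight_tm, Dcoh.MonTm.whiskerRight_tm, ← Dcoh.MonTm.add_tm]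
    rfl

lemma whiskerRight_smulHom (N L : X.Modules) (r : Γ(X, ⊤)) :
    HHmap.smulHom N r ▷ L = HHmap.smulHom (N ⊗ L) r := by
  apply Dcoh.MonTm.ext₂
  intro U m l
  rw [Dcoh.MonTm.whiskerRight_tm, HHmap.smulHom_app, HHmap.smulHom_app, Dcoh.MonTm.smul_tm]

section

variable (L L' : X.Modules) [ExactPairing L L']

include L'

lemma pfl_tensorRight : PreservesFiniteLimits (tensorRight L) := by
  letI := BraidedCategory.exactPairing_swap L L'
  have := (tensorRightAdjunction L' L).rightAdjoint_preservesLimits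
  exact inferInstance

lemma pfc_tensorRight : PreservesFiniteColimits (tensorRight L) := by
  have := (tensorRightAdjunction L L').leftAdjoint_preservesColimits
  exact inferInstance

lemma injective_tensorRight (I : X.Modules) [Injective I] : Injective (I ⊗ L) :=
  have := Dcoh.MonDual.injective_tensorLeft L L' I
  Injective.of_iso (β_ L I) this

variable {L}

lemma subsingleton_ext_tensorRight [HasExt.{w} X.Modules] (I : X.Modules) [Injective I] (n : ℕ) :
    Subsingleton (Ext.{w} (𝟙_ X.Modules) ((tensorRight L).obj I) (n + 1)) := by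
  have : Injective ((tensorRight L).obj I) := injective_tensorRight L L' I
  exact Ext.subsingleton_of_injective _ _ _

end

variable {L : X.Modules} (L' : X.Modules) [ExactPairing L L'] {P : X.Modules} (c : 𝟙_ X.Modules ⟶ P ⊗ L)
  (hc : ∀ F : X.Modules, Function.Bijective (fun g : P ⟶ F => c ≫ g ▷ L))

/-- `Ext^n(P, N) = Ext^n(O, N ⊗ L)` for `P` dual to `L`. -/
noncomputable def extL [HasExt.{w} X.Modules] (N : X.Modules) (n : ℕ) :
    Ext.{w} P N n ≃+ Ext.{w} (𝟙_ X.Modules) ((tensorRight L).obj N) n :=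
  haveI := additive_tensorRight L
  haveI := pfl_tensorRight L L'
  haveI := pfc_tensorRight L L'
  haveI := Groth.Agent.PerfA.AffVan.enoughInjectives X
  compareEquiv (tensorRight L) c hc (fun I _ n => subsingleton_ext_tensorRight L' I n) N n

/-- `Hom_{D(O_X)}(P, N[n]) = H^n(X, N ⊗ L)` for `P` dual to `L`. -/
noncomputable def homL (N : X.Modules) (n : ℕ) :
    (DCoh.inD X P ⟶ (DCoh.inD X N)⟦(n : ℤ)⟧) ≃+ Coh.HH X ((DCoh.tensorBi.obj N).obj L) n :=
  haveI := HasExt.standard X.Modules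
  (Ext.homAddEquiv (X := P) (Y := N) (n := n)).symm.trans
    ((extL L' c hc N n).trans (GammaD.extEquiv ((tensorRight L).obj N) n))

lemma extL_comp_mk₀ [HasExt.{w} X.Modules] {N N' : X.Modules} {n : ℕ} (x : Ext.{w} P N n) (φ : N ⟶ N') :
    extL L' c hc N' n (x.comp (Ext.mk₀ φ) (add_zero n)) =
      (extL L' c hc N n x).comp (Ext.mk₀ (φ ▷ L)) (add_zero n) := by
  have := additive_tensorRight L
  have := pfl_tensorRight L L'
  have := pfc_tensorRight L L'
  exact compare_comp_mk₀ (tensorRight L) c x φ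

lemma homL_comp_map {N N' : X.Modules} {n : ℕ}
    (x : DCoh.inD X P ⟶ (DCoh.inD X N)⟦(n : ℤ)⟧) (φ : N ⟶ N') :
    homL L' c hc N' n (x ≫ ((DerivedCategory.singleFunctor X.Modules 0).map φ)⟦(n : ℤ)⟧') =
      HHmap.map (φ ▷ L) n (homL L' c hc N n x) := by
  have := HasExt.standard X.Modules
  obtain ⟨y, rfl⟩ := (Ext.homAddEquiv (X := P) (Y := N) (n := n)).surjective x
  have h1 : homL L' c hc N n (Ext.homAddEquiv y) = GammaD.extEquiv _ n (extL L' c hc N n y) := by
    change GammaD.extEquiv _ n (extL L' c hc N n (Ext.homAddEquiv.symm (Ext.homAddEquiv y))) = _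
    rw [AddEquiv.symm_apply_apply]
  have h2 : (Ext.homAddEquiv (X := P) (Y := N) (n := n) y) ≫
      ((DerivedCategory.singleFunctor X.Modules 0).map φ)⟦(n : ℤ)⟧' =
      Ext.homAddEquiv (y.comp (Ext.mk₀ φ) (add_zero n)) := by
    change y.hom ≫ _ = (y.comp (Ext.mk₀ φ) (add_zero n)).hom
    rw [Ext.comp_hom, Ext.mk₀_hom, ShiftedHom.comp_mk₀]
  rw [h2, h1]
  change GammaD.extEquiv _ n (extL L' c hc N' n (Ext.homAddEquiv.symm (Ext.homAddEquiv
    (y.comp (Ext.mk₀ φ) (add_zero n))))) = _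
  rw [AddEquiv.symm_apply_apply, extL_comp_mk₀]
  exact GammaD.extEquiv_comp_mk₀ _ _

lemma smul_eq_comp {N : X.Modules} {n : ℕ} (r : Γ(X, ⊤)) {K : DCoh.D X}
    (x : K ⟶ (DCoh.inD X N)⟦(n : ℤ)⟧) :
    r • x = x ≫ ((DerivedCategory.singleFunctor X.Modules 0).map (HHmap.smulHom N r))⟦(n : ℤ)⟧' := by
  have h1 : HHmap.smulHom N r = r • 𝟙 N := by
    rw [SectLin303.smul_eq, Category.comp_id]
  rw [h1, Functor.map_smul, CategoryTheory.Functor.map_id, Functor.map_smul, CategoryTheory.Functor.map_id,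
    Linear.comp_smul, Category.comp_id]

/-- Linearity over the global functions. -/
lemma homL_smul {N : X.Modules} {n : ℕ} (r : Γ(X, ⊤))
    (x : DCoh.inD X P ⟶ (DCoh.inD X N)⟦(n : ℤ)⟧) :
    homL L' c hc N n (r • x) = (show Coh.Γtop X from r) • homL L' c hc N n x := by
  rw [smul_eq_comp, homL_comp_map, whiskerRight_smulHom]
  exact HHmap.map_smulHom _ _ _ _

section
variable {L₂ : X.Modules} (L₂' : X.Modules) [ExactPairing L₂ L₂'] {P₂ : X.Modules} (c₂ : 𝟙_ X.Modules ⟶ P₂ ⊗ L₂)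
  (hc₂ : ∀ F : X.Modules, Function.Bijective (fun g : P₂ ⟶ F => c₂ ≫ g ▷ L₂)) (a : L ⟶ L₂) (v : P₂ ⟶ P)
  (hv : c₂ ≫ v ▷ L₂ = c ≫ P ◁ a)

/-- `N ↦ N ◁ a` -/
noncomputable def whisk : tensorRight L ⟶ tensorRight L₂ where
  app N := N ◁ a
  naturality _ _ f := (whisker_exchange f a).symm

include hv in
lemma extL_nat [HasExt.{w} X.Modules] {N : X.Modules} {n : ℕ} (x : Ext.{w} P N n) :
    extL L₂' c₂ hc₂ N n ((Ext.mk₀ v).comp x (zero_add n)) =
      (extL L' c hc N n x).comp (Ext.mk₀ (N ◁ a)) (add_zero n) := by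
  have := additive_tensorRight L
  have := pfl_tensorRight L L'
  have := pfc_tensorRight L L'
  have := additive_tensorRight L₂
  have := pfl_tensorRight L₂ L₂'
  have := pfc_tensorRight L₂ L₂'
  have := Groth.Agent.PerfA.AffVan.enoughInjectives X
  exact compare_nat (whisk a) c c₂ v hv x

include hv in
/-- Naturality in `L`. -/
lemma homL_nat {N : X.Modules} {n : ℕ} (x : DCoh.inD X P ⟶ (DCoh.inD X N)⟦(n : ℤ)⟧) :
    homL L₂' c₂ hc₂ N n ((DerivedCategory.singleFunctor X.Modules 0).map v ≫ x) =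
      HHmap.map (N ◁ a) n (homL L' c hc N n x) := by
  have := HasExt.standard X.Modules
  obtain ⟨y, rfl⟩ := (Ext.homAddEquiv (X := P) (Y := N) (n := n)).surjective x
  have h1 : homL L' c hc N n (Ext.homAddEquiv y) = GammaD.extEquiv _ n (extL L' c hc N n y) := by
    change GammaD.extEquiv _ n (extL L' c hc N n (Ext.homAddEquiv.symm (Ext.homAddEquiv y))) = _
    rw [AddEquiv.symm_apply_apply]
  have h2 : (DerivedCategory.singleFunctor X.Modules 0).map v ≫ (Ext.homAddEquiv (X := P) (Y := N) (n := n) y) =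
      Ext.homAddEquiv ((Ext.mk₀ v).comp y (zero_add n)) := by
    change _ ≫ y.hom = ((Ext.mk₀ v).comp y (zero_add n)).hom
    rw [Ext.comp_hom, Ext.mk₀_hom, ShiftedHom.mk₀_comp]
  rw [h2, h1]
  change GammaD.extEquiv _ n (extL L₂' c₂ hc₂ N n (Ext.homAddEquiv.symm (Ext.homAddEquiv
    ((Ext.mk₀ v).comp y (zero_add n))))) = _
  rw [AddEquiv.symm_apply_apply, extL_nat L' c hc L₂' c₂ hc₂ a v hv]
  exact GammaD.extEquiv_comp_mk₀ _ _

end

end Sch

end K175.FLFExt
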