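import Groth.Agent.LoccohB.RGammaHDI
import Groth.Agent.LoccohB.RGammaTors
import Groth.Agent.LoccohB.LocDualElt
import Groth.Agent.PerfA.Hyp0
import Groth.Agent.LoccohB.FInv

/-!
# Maps out of `A` and out of `A/I^n` into torsion objects of `D(A)`
-/

set_option autoImplicit false
universe u
open CategoryTheory Limits Opposite
attribute [local instance] HasDerivedCategory.standard

namespace K175.CanTors

open Groth.Agent.LoccohB Groth.Agent.LoccohB.LocDualElt Groth.Agent.LoccohB.HClass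
  Groth.Agent.LoccohB.RGammaBasic Groth.Agent.LoccohB.GammaQis Groth.Agent.LoccohB.RGammaHDI
  Groth.Agent.PerfA.Hyp0

variable {A : Type u} [CommRing A] (I : Ideal A)

/-- `A → A/I^n` in `D(A)`. -/
noncomputable abbrev mkq (n : ℕ) : Dual.inD A A ⟶ Dual.inD A (A ⧸ I ^ n) :=
  (SF A).map (ModuleCat.ofHom (Submodule.mkQ (I ^ n)))

lemma mkq_tr {n m : ℕ} (h : n ≤ m) : mkq I m ≫ tr I h = mkq I n := by
  rw [mkq, mkq, tr, ← Functor.map_comp]
  congr 1

/-- `1 ↦ z` -/
noncomputable def one {M : ModuleCat.{u} A} (z : M) : ModuleCat.of A A ⟶ M :=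
  ModuleCat.ofHom (LinearMap.toSpanSingleton A M z)

lemma one_apply {M : ModuleCat.{u} A} (z : M) : one z (1 : A) = z := by
  change (1 : A) • z = z
  exact one_smul _ _

lemma one_ext {M : ModuleCat.{u} A} {f g : ModuleCat.of A A ⟶ M} (h : f (1 : A) = g (1 : A)) : f = g := by
  apply ModuleCat.hom_ext
  apply LinearMap.ext_ring
  exact h

variable {I} in
lemma mkQ_lft {M : ModuleCat.{u} A} (n : ℕ) (z : M) (hz : ∀ a ∈ I ^ n, a • z = 0) :
    ModuleCat.ofHom (Submodule.mkQ (I ^ n)) ≫ lft I n z hz = one z := by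
  apply one_ext
  rw [one_apply]
  exact lft_one I n z hz

variable [IsNoetherianRing A]

section

variable {I} {J : CochainComplex (ModuleCat.{u} A) ℤ} (hJ : ∀ n, Injective (J.X n))
  (hT : ∀ i, LocCoh.IsPowerTorsion I (J.homology i))

include hJ hT

lemma exists_torsion_rep (z : J.X 0) (hz : J.d 0 (0 + 1) z = 0) :
    ∃ (t : J.X 0) (_ : t ∈ DRing.torsionSub I (J.X 0)) (w : J.X (0 - 1)), J.d 0 (0 + 1) t = 0 ∧
      J.d (0 - 1) 0 w = z - t := by
  have hq := quasiIso_gι I hJ hT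
  have h1 : Function.Surjective (HomologicalComplex.homologyMap (gι I J) 0) :=
    ((ConcreteCategory.isIso_iff_bijective (HomologicalComplex.homologyMap (gι I J) 0)).1 inferInstance).2
  obtain ⟨y, hy⟩ := h1 (hcl J 0 ⟨z, hz⟩)
  obtain ⟨t, rfl⟩ := hcl_surjective y
  rw [homologyMap_hcl] at hy
  have h2 : hcl J 0 (⟨z, hz⟩ - ⟨(gι I J).f 0 t.1, map_mem_ker (gι I J) _ t.2⟩) = 0 := by
    rw [map_sub, hy, sub_self]
  rw [hcl_eq_zero_iff] at h2
  obtain ⟨w, hw⟩ := h2
  exact ⟨(gι I J).f 0 t.1, t.1.2, w, map_mem_ker (gι I J) _ t.2, hw⟩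

lemma exists_torsion_bd (t : J.X 0) (ht : t ∈ DRing.torsionSub I (J.X 0)) (hz : J.d 0 (0 + 1) t = 0)
    (w : J.X (0 - 1)) (hw : J.d (0 - 1) 0 w = t) :
    ∃ w' : J.X (0 - 1), w' ∈ DRing.torsionSub I (J.X (0 - 1)) ∧ J.d (0 - 1) 0 w' = t := by
  have hq := quasiIso_gι I hJ hT
  have h1 : Function.Injective (HomologicalComplex.homologyMap (gι I J) 0) :=
    ((ConcreteCategory.isIso_iff_bijective (HomologicalComplex.homologyMap (gι I J) 0)).1 inferInstance).1
  let t' : LinearMap.ker (((gCx I).obj J).d 0 (0 + 1)).hom := ⟨⟨t, ht⟩, Subtype.ext hz⟩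
  have h2 : hcl ((gCx I).obj J) 0 t' = 0 := by
    apply h1
    rw [homologyMap_hcl, map_zero, hcl_eq_zero_iff]
    exact ⟨w, hw⟩
  rw [hcl_eq_zero_iff] at h2
  obtain ⟨w', hw'⟩ := h2
  exact ⟨w'.1, w'.2, congrArg Subtype.val hw'⟩

end

lemma ofCocycle_congr {C : Type*} [Category* C] [Abelian C] [HasDerivedCategory C] {G : C} {L : CochainComplex C ℤ} {m : ℤ}
    {z z' : G ⟶ L.X m} (h : z = z') (hz : z ≫ L.d m (m + 1) = 0) (hz' : z' ≫ L.d m (m + 1) = 0) :
    ofCocycle z hz = ofCocycle z' hz' := by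
  subst h
  rfl

lemma ofCocycle_add {C : Type*} [Category* C] [Abelian C] [HasDerivedCategory C] {G : C} {L : CochainComplex C ℤ} {m : ℤ}
    (z z' : G ⟶ L.X m) (hz : z ≫ L.d m (m + 1) = 0) (hz' : z' ≫ L.d m (m + 1) = 0)
    (h : (z + z') ≫ L.d m (m + 1) = 0) :
    ofCocycle (z + z') h = ofCocycle z hz + ofCocycle z' hz' := by
  have h1 : cocycleHom (z + z') h = cocycleHom z hz + cocycleHom z' hz' := by
    apply HomologicalComplex.from_single_hom_ext
    rw [HomologicalComplex.add_f_apply, cocycleHom_f, cocycleHom_f, cocycleHom_f, Preadditive.comp_add]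
  exact (congrArg DerivedCategory.Q.map h1).trans (Functor.map_add _)

/-- Every map from `A` to a torsion object factors through some `A/I^n`. -/
theorem can_surj (G : Dual.D A) (hG : FInv.IsTors I G) (φ : Dual.inD A A ⟶ G) :
    ∃ (n : ℕ) (g : Dual.inD A (A ⧸ I ^ n) ⟶ G), mkq I n ≫ g = φ := by
  obtain ⟨J, hJ, hJ', ⟨e⟩⟩ := KInjD.exists_res' A G
  have hT : ∀ i, LocCoh.IsPowerTorsion I (J.homology i) :=
    (RGammaTors.isTors_Q_iff I J).1 (hG.of_iso e.symm)
  obtain ⟨z, hz, hφ⟩ := exists_cocycle_of_isKInjective (G := ModuleCat.of A A) (I := J) (m := 0) (φ ≫ e.inv)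
  have hz1 : J.d 0 (0 + 1) (z (1 : A)) = 0 := by
    have := congrArg (fun ψ => ψ.hom (1 : A)) hz
    exact this
  obtain ⟨t, ⟨n, hn⟩, w, ht, hw⟩ := exists_torsion_rep hJ' hT (z (1 : A)) hz1
  have hl := lft_comp_d I n t hn ht
  have h0 : one t ≫ J.d 0 (0 + 1) = 0 := by
    rw [← mkQ_lft n t hn, Category.assoc, hl, comp_zero]
  have h0' : (z - one t) ≫ J.d 0 (0 + 1) = 0 := by
    rw [Preadditive.sub_comp, hz, h0, sub_zero]
  refine ⟨n, ofCocycle (lft I n t hn) hl ≫ e.hom, ?_⟩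
  have h1 : mkq I n ≫ ofCocycle (lft I n t hn) hl = ofCocycle (one t) h0 :=
    (map_ofCocycle (lft I n t hn) hl _).trans (ofCocycle_congr (mkQ_lft n t hn) _ _)
  have h3 : ofCocycle (z - one t) h0' = 0 := by
    refine ofCocycle_eq_zero (n := 0 - 1) (by simp) _ _ (one w) ?_
    apply one_ext
    change J.d (0 - 1) 0 (one w (1 : A)) = z (1 : A) - one t (1 : A)
    rw [one_apply, one_apply]
    exact hw
  have h2 : ofCocycle z hz = ofCocycle (one t) h0 := by
    have h5 : ofCocycle ((z - one t) + one t) (by rw [sub_add_cancel]; exact hz) =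
        ofCocycle (z - one t) h0' + ofCocycle (one t) h0 := ofCocycle_add _ _ _ _ _
    have h6 : ofCocycle z hz = ofCocycle ((z - one t) + one t) (by rw [sub_add_cancel]; exact hz) :=
      ofCocycle_congr (sub_add_cancel _ _).symm _ _
    exact h6.trans (h5.trans ((congrArg (· + ofCocycle (one t) h0) h3).trans (zero_add _)))
  have h7 : mkq I n ≫ ofCocycle (lft I n t hn) hl = φ ≫ e.inv := h1.trans (h2.symm.trans hφ.symm)
  rw [← Category.assoc, h7, Category.assoc, e.inv_hom_id, Category.comp_id]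

/-- A map from `A/I^n` to a torsion object which is zero on `A` is zero on some `A/I^m`. -/
theorem can_inj (G : Dual.D A) (hG : FInv.IsTors I G) (n : ℕ) (g : Dual.inD A (A ⧸ I ^ n) ⟶ G)
    (hg : mkq I n ≫ g = 0) : ∃ (m : ℕ) (h : n ≤ m), tr I h ≫ g = 0 := by
  obtain ⟨J, hJ, hJ', ⟨e⟩⟩ := KInjD.exists_res' A G
  have hT : ∀ i, LocCoh.IsPowerTorsion I (J.homology i) :=
    (RGammaTors.isTors_Q_iff I J).1 (hG.of_iso e.symm)
  obtain ⟨z, hz, hφ⟩ := exists_cocycle_of_isKInjective (G := ModuleCat.of A (A ⧸ I ^ n)) (I := J) (m := 0) (g ≫ e.inv)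
  let t : J.X 0 := z (Submodule.Quotient.mk (1 : A) : A ⧸ I ^ n)
  have htn : ∀ a ∈ I ^ n, a • t = 0 := smul_eq_zero_of_hom I z
  have ht : J.d 0 (0 + 1) t = 0 := by
    have := congrArg (fun ψ => ψ.hom (Submodule.Quotient.mk (1 : A) : A ⧸ I ^ n)) hz
    exact this
  have hz2 : ofCocycle (ModuleCat.ofHom (Submodule.mkQ (I ^ n)) ≫ z) (by rw [Category.assoc, hz, comp_zero]) = 0 := by
    rw [← map_ofCocycle z hz, ← hφ]
    change mkq I n ≫ g ≫ e.inv = 0
    rw [← Category.assoc, hg, zero_comp]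
  obtain ⟨y, hy⟩ := exists_of_ofCocycle_eq_zero (n := -1) (by simp) _ _ hz2
  have hw : J.d (0 - 1) 0 (y (1 : A)) = t := congrArg (fun ψ => ψ.hom (1 : A)) hy
  obtain ⟨w', ⟨k, hk⟩, hw'⟩ := exists_torsion_bd hJ' hT t ⟨n, htn⟩ ht (y (1 : A)) hw
  refine ⟨max n k, le_max_left _ _, ?_⟩
  rw [← cancel_mono e.inv, zero_comp, Category.assoc, hφ]
  refine (map_ofCocycle z hz _).trans ?_
  refine ofCocycle_eq_zero (n := -1) (by simp) _ _
    (lft (M := J.X (-1)) I (max n k) w' (fun a ha => hk a (Ideal.pow_le_pow_right (le_max_right n k) ha))) ?_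
  apply hom_ext_one I
  rw [ModuleCat.comp_apply, lft_one]
  exact hw'

end K175.CanTors
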