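import Groth.Agent.Dual.H364.Spread
import Groth.Agent.LoccohB.LBC
import Mathlib.RingTheory.PicardGroup

/-!
# Two dualizing complexes differ by an invertible module and a shift
-/

set_option autoImplicit false
universe w v u
open CategoryTheory Limits Pretriangulated MonoidalCategory
attribute [local instance] HasDerivedCategory.standard

namespace K175.DualPair

section Abs

variable {C : Type*} [Category C] [Preadditive C] {W K T : C} {J : Type*} [Fintype J]
  (p : J → (W ⟶ K)) (r : J → (K ⟶ W)) (s : J → (T ⟶ W)) (t : J → (W ⟶ T))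
  (hK : ∑ j, r j ≫ p j = 𝟙 K) (hT : ∑ j, s j ≫ t j = 𝟙 T) (h : ∀ i j, p i ≫ r j = t i ≫ s j)

include hK hT h in
/-- two retracts of `W^J` with the same idempotent are isomorphic -/
theorem nonempty_iso : Nonempty (T ≅ K) := by
  refine ⟨⟨∑ j, s j ≫ p j, ∑ j, r j ≫ t j, ?_, ?_⟩⟩
  · calc (∑ j, s j ≫ p j) ≫ (∑ j, r j ≫ t j) = ∑ j, ∑ i, (s j ≫ p j) ≫ (r i ≫ t i) := by
          rw [Preadditive.sum_comp]
          exact Finset.sum_congr rfl fun j _ => Preadditive.comp_sum _ _ _
      _ = ∑ j, ∑ i, (s j ≫ t j) ≫ (s i ≫ t i) := by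
          refine Finset.sum_congr rfl fun j _ => Finset.sum_congr rfl fun i _ => ?_
          simp only [Category.assoc]
          rw [reassoc_of% (h j i)]
      _ = (∑ j, s j ≫ t j) ≫ (∑ j, s j ≫ t j) := by
          rw [Preadditive.sum_comp]
          exact (Finset.sum_congr rfl fun j _ => Preadditive.comp_sum _ _ _).symm
      _ = 𝟙 T := by rw [hT, Category.id_comp]
  · calc (∑ j, r j ≫ t j) ≫ (∑ j, s j ≫ p j) = ∑ j, ∑ i, (r j ≫ t j) ≫ (s i ≫ p i) := by
          rw [Preadditive.sum_comp]
          exact Finset.sum_congr rfl fun j _ => Preadditive.comp_sum _ _ _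
      _ = ∑ j, ∑ i, (r j ≫ p j) ≫ (r i ≫ p i) := by
          refine Finset.sum_congr rfl fun j _ => Finset.sum_congr rfl fun i _ => ?_
          simp only [Category.assoc]
          rw [← reassoc_of% (h j i)]
      _ = (∑ j, r j ≫ p j) ≫ (∑ j, r j ≫ p j) := by
          rw [Preadditive.sum_comp]
          exact (Finset.sum_congr rfl fun j _ => Preadditive.comp_sum _ _ _).symm
      _ = 𝟙 K := by rw [hK, Category.id_comp]

end Abs

section FIso

variable {A : Type u} [CommRing A]

open Groth.Agent.LoccohB.FlatLBC Groth.Agent.LoccohB.HomBC Groth.Agent.LoccohB.GorSpread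
  Groth.Agent.Dual.H364.Spread
open scoped TensorProduct

/-- `f` lies in this set if `X` and `K` are isomorphic up to `f`. -/
def FIso (X K : Dual.D A) (f : A) : Prop :=
  ∃ (p : X ⟶ K) (r : K ⟶ X), p ≫ r = f • 𝟙 X ∧ r ≫ p = f • 𝟙 K

/-- base change to the local ring at `q` -/
noncomputable abbrev GG (q : Ideal A) [q.IsPrime] : Dual.D A ⥤ Dual.D (Localization.AtPrime q) :=
  flatBC (algebraMap A (Localization.AtPrime q)) (flat_atPrime q)

variable [IsNoetherianRing A] (q : Ideal A) [q.IsPrime]

lemma exists_map_smul (X K : Dual.D A) (c d a : ℤ)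
    [X.IsGE c] [X.IsLE d] [K.IsGE a] (hX : ∀ i, Module.Finite A (Dual.HD A X i))
    (e' : (GG q).obj X ⟶ (GG q).obj K) :
    ∃ (x : X ⟶ K) (s : A), s ∉ q ∧
      (GG q).map x = algebraMap A (Localization.AtPrime q) s • e' := by
  let S := Localization.AtPrime q
  let G := GG q
  obtain ⟨t, ht⟩ := (bc_bijective_of_bounded S (flat_atPrime q) X c d hX K a).2 e'
  obtain ⟨⟨x, s⟩, hx⟩ := IsLocalizedModule.surj q.primeCompl
    (TensorProduct.mk A S (X ⟶ K) 1) t
  refine ⟨x, s, s.2, ?_⟩
  have h1 := congrArg (bc A S G X K) hx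
  rw [TensorProduct.mk_apply, bc_tmul, one_smul] at h1
  rw [← h1, ← ht]
  change bc A S G X K ((s : A) • t) = _
  rw [← algebraMap_smul S (s : A) t, bc_smul]

lemma exists_smul_eq (X K : Dual.D A) (c d a : ℤ)
    [X.IsGE c] [X.IsLE d] [K.IsGE a] (hX : ∀ i, Module.Finite A (Dual.HD A X i))
    (x y : X ⟶ K) (h : (GG q).map x = (GG q).map y) : ∃ s : A, s ∉ q ∧ s • x = s • y := by
  let S := Localization.AtPrime q
  have h1 : bc A S (GG q) X K (1 ⊗ₜ x) = bc A S (GG q) X K (1 ⊗ₜ y) := by
    rw [bc_tmul, bc_tmul, h]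
  have h2 := (bc_bijective_of_bounded S (flat_atPrime q) X c d hX K a).1 h1
  obtain ⟨s, hs⟩ := (IsLocalizedModule.eq_iff_exists q.primeCompl
    (TensorProduct.mk A S (X ⟶ K) 1)).1 h2
  exact ⟨s, s.2, hs⟩

/-- An isomorphism at `q` gives an isomorphism up to some `f ∉ q`. -/
theorem exists_fIso (X K : Dual.D A) (c d a b : ℤ)
    [X.IsGE c] [X.IsLE d] [K.IsGE a] [K.IsLE b] (hX : ∀ i, Module.Finite A (Dual.HD A X i))
    (hK : ∀ i, Module.Finite A (Dual.HD A K i))
    (e : (GG q).obj X ≅ (GG q).obj K) : ∃ f : A, f ∉ q ∧ FIso X K f := by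
  obtain ⟨x, s, hs, hx⟩ := exists_map_smul q X K c d a hX e.hom
  obtain ⟨y, t, ht, hy⟩ := exists_map_smul q K X a b c hK e.inv
  have h1 : (GG q).map (x ≫ y) = (GG q).map ((s * t) • 𝟙 X) := by
    rw [Functor.map_comp, hx, hy, semi_map_smul A (Localization.AtPrime q), CategoryTheory.Functor.map_id]
    simp [smul_smul, mul_comm]
  have h2 : (GG q).map (y ≫ x) = (GG q).map ((s * t) • 𝟙 K) := by
    rw [Functor.map_comp, hx, hy, semi_map_smul A (Localization.AtPrime q), CategoryTheory.Functor.map_id]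
    simp [smul_smul, mul_comm]
  obtain ⟨u, hu, h3⟩ := exists_smul_eq q X X c d c hX _ _ h1
  obtain ⟨v, hv, h4⟩ := exists_smul_eq q K K a b a hK _ _ h2
  have hq := (inferInstance : q.IsPrime)
  refine ⟨(u * v) * (s * t), ?_, (u * v) • x, y, ?_, ?_⟩
  · exact fun h => (hq.mem_or_mem h).elim (fun h => (hq.mem_or_mem h).elim hu hv)
      (fun h => (hq.mem_or_mem h).elim hs ht)
  · rw [Linear.smul_comp, mul_comm u v, mul_smul, h3, smul_smul, smul_smul]
  · rw [Linear.comp_smul, mul_smul, h4, smul_smul, smul_smul]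

omit [IsNoetherianRing A] in
/-- Global data from local ones. -/
theorem exists_data (X K : Dual.D A) (h : ∀ q : Ideal A, q.IsPrime → ∃ f : A, f ∉ q ∧ FIso X K f) :
    ∃ (n : ℕ) (p : Fin n → (X ⟶ K)) (r : Fin n → (K ⟶ X)),
      ∑ j, p j ≫ r j = 𝟙 X ∧ ∑ j, r j ≫ p j = 𝟙 K := by
  have h1 : Ideal.span {f : A | FIso X K f} = ⊤ := by
    by_contra hne
    obtain ⟨m, hm, hle⟩ := Ideal.exists_le_maximal _ hne
    obtain ⟨f, hf, hf'⟩ := h m hm.isPrime
    exact hf (hle (Ideal.subset_span hf'))
  have h2 : (1 : A) ∈ Submodule.span A {f : A | FIso X K f} := by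
    have := h1 ▸ Submodule.mem_top (x := (1 : A)) (R := A)
    exact this
  obtain ⟨n, a, g, hg⟩ := Submodule.mem_span_set'.1 h2
  choose p r hp hr using fun j => (g j).2
  refine ⟨n, fun j => a j • p j, r, ?_, ?_⟩
  · simp_rw [Linear.smul_comp, hp, smul_smul, ← Finset.sum_smul]
    rw [show ∑ i, a i * (g i : A) = 1 from hg, one_smul]
  · simp_rw [Linear.comp_smul, hr, smul_smul, ← Finset.sum_smul]
    rw [show ∑ i, a i * (g i : A) = 1 from hg, one_smul]

end FIso

section Morita

variable {A : Type u} [CommRing A] {C : Type v} [Category.{w} C] [Preadditive C] [Linear A C]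
  {W K : C} {J : Type} [Fintype J] (p : J → (W ⟶ K)) (r : J → (K ⟶ W))
  (hW : Function.Bijective (fun a : A => a • 𝟙 W)) (hK : Function.Bijective (fun a : A => a • 𝟙 K))
  (h1 : ∑ j, r j ≫ p j = 𝟙 K)

/-- the scalar of an endomorphism. -/
noncomputable def scal {W : C} (hW : Function.Bijective (fun a : A => a • 𝟙 W)) : (W ⟶ W) →ₗ[A] A :=
  (LinearEquiv.ofBijective ({ toFun := fun a => a • 𝟙 W
                              map_add' := fun a b => add_smul a b _
                              map_smul' := fun a b => mul_smul a b _ } : A →ₗ[A] (W ⟶ W)) hW).symm.toLinearMap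

lemma scal_smul {W : C} (hW : Function.Bijective (fun a : A => a • 𝟙 W)) (g : W ⟶ W) :
    scal hW g • 𝟙 W = g :=
  (LinearEquiv.ofBijective ({ toFun := fun a => a • 𝟙 W
                              map_add' := fun a b => add_smul a b _
                              map_smul' := fun a b => mul_smul a b _ } : A →ₗ[A] (W ⟶ W)) hW).apply_symm_apply g

lemma scal_smul_id {W : C} (hW : Function.Bijective (fun a : A => a • 𝟙 W)) (a : A) :
    scal hW (a • 𝟙 W) = a :=
  (LinearEquiv.ofBijective ({ toFun := fun a => a • 𝟙 W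
                              map_add' := fun a b => add_smul a b _
                              map_smul' := fun a b => mul_smul a b _ } : A →ₗ[A] (W ⟶ W)) hW).symm_apply_apply a

open scoped TensorProduct

/-- the pairing `g ⊗ h ↦ scalar of h ≫ g`. -/
noncomputable def pairing (hK : Function.Bijective (fun a : A => a • 𝟙 K)) :
    (W ⟶ K) ⊗[A] (K ⟶ W) →ₗ[A] A :=
  TensorProduct.lift
    (LinearMap.mk₂ A (fun (g : W ⟶ K) (h : K ⟶ W) => scal hK (h ≫ g))
      (fun g g' h => by rw [Preadditive.comp_add, map_add])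
      (fun a g h => by rw [Linear.comp_smul, map_smul])
      (fun g h h' => by rw [Preadditive.add_comp, map_add])
      (fun a g h => by rw [Linear.smul_comp, map_smul]))

@[simp] lemma pairing_tmul (g : W ⟶ K) (h : K ⟶ W) : pairing hK (g ⊗ₜ h) = scal hK (h ≫ g) := rfl

include hW h1 in
lemma pairing_inv (t : (W ⟶ K) ⊗[A] (K ⟶ W)) : t = ∑ j, (p j) ⊗ₜ[A] (pairing hK t • r j) := by
  induction t using TensorProduct.induction_on with
  | zero => simp
  | add x y hx hy =>
    conv_lhs => rw [hx, hy]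
    rw [← Finset.sum_add_distrib]
    refine Finset.sum_congr rfl fun j _ => ?_
    rw [map_add, add_smul, TensorProduct.tmul_add]
  | tmul g h =>
    have hg : g = ∑ j, scal hW (g ≫ r j) • p j := by
      calc g = g ≫ ∑ j, r j ≫ p j := by rw [h1, Category.comp_id]
        _ = ∑ j, scal hW (g ≫ r j) • p j := by
            rw [Preadditive.comp_sum]
            refine Finset.sum_congr rfl fun j _ => ?_
            rw [← Category.assoc]
            conv_lhs => rw [← scal_smul hW (g ≫ r j), Linear.smul_comp, Category.id_comp]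
    conv_lhs => rw [hg]
    rw [TensorProduct.sum_tmul]
    refine Finset.sum_congr rfl fun j _ => ?_
    rw [TensorProduct.smul_tmul]
    congr 1
    rw [pairing_tmul]
    have e1 : scal hW (g ≫ r j) • h = h ≫ g ≫ r j := by
      conv_rhs => rw [← scal_smul hW (g ≫ r j), Linear.comp_smul, Category.comp_id]
    have e2 : scal hK (h ≫ g) • r j = (h ≫ g) ≫ r j := by
      conv_rhs => rw [← scal_smul hK (h ≫ g), Linear.smul_comp, Category.id_comp]
    rw [e1, e2, Category.assoc]

include hW h1 in
lemma pairing_bijective : Function.Bijective (pairing (W := W) hK) := by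
  constructor
  · intro t t' h
    rw [pairing_inv p r hW hK h1 t, pairing_inv p r hW hK h1 t', h]
  · intro a
    refine ⟨∑ j, (p j) ⊗ₜ[A] (a • r j), ?_⟩
    simp only [map_sum, pairing_tmul, Linear.smul_comp, map_smul]
    rw [← Finset.smul_sum, ← map_sum, h1]
    have := scal_smul_id hK 1
    rw [one_smul] at this
    rw [this, smul_eq_mul, mul_one]

include p r hW hK h1 in
theorem invertible : Module.Invertible A (W ⟶ K) :=
  Module.Invertible.left (LinearEquiv.ofBijective (pairing hK) (pairing_bijective p r hW hK h1))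

end Morita

end K175.DualPair
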