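import Groth.Agent.Dual.K175.DualPair
import Groth.Agent.LoccohA.DzUnique3
import Mathlib.RingTheory.Finiteness.Small
import Mathlib.Algebra.Module.Shrink
import Mathlib.Topology.LocallyConstant.Basic

/-!
# Two dualizing complexes differ by an invertible module and a shift (2)
-/

set_option autoImplicit false
universe w v u
open CategoryTheory Limits Pretriangulated MonoidalCategory
attribute [local instance] HasDerivedCategory.standard

namespace K175.DualPair

variable {A : Type u} [CommRing A]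

section Ten

/-- `M ↦ C ⊗ M` as a functor to complexes. -/
noncomputable def ten (C : CochainComplex (ModuleCat.{u} A) ℤ) :
    ModuleCat.{u} A ⥤ CochainComplex (ModuleCat.{u} A) ℤ where
  obj M := ((tensorRight M).mapHomologicalComplex (ComplexShape.up ℤ)).obj C
  map u := (NatTrans.mapHomologicalComplex ((tensoringRight (ModuleCat.{u} A)).map u) _).app C
  map_id M := by
    ext i : 1
    exact MonoidalCategory.whiskerLeft_id (C.X i) M
  map_comp u v := by
    ext i : 1
    exact MonoidalCategory.whiskerLeft_comp (C.X i) u v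

lemma ten_map_f (C : CochainComplex (ModuleCat.{u} A) ℤ) {M N : ModuleCat.{u} A} (u : M ⟶ N) (i : ℤ) :
    ((ten C).map u).f i = C.X i ◁ u := rfl

instance (C : CochainComplex (ModuleCat.{u} A) ℤ) : (ten C).Additive where
  map_add {M N u v} := by
    ext i : 1
    exact MonoidalPreadditive.whiskerLeft_add (X := C.X i) u v

instance (C : CochainComplex (ModuleCat.{u} A) ℤ) : (ten C).Linear A where
  map_smul {M N} u a := by
    ext i : 1
    exact MonoidalLinear.whiskerLeft_smul (R := A) (C.X i) a u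

/-- `C ⊗ A ≅ C`. -/
noncomputable def tenUnit (C : CochainComplex (ModuleCat.{u} A) ℤ) : (ten C).obj (𝟙_ (ModuleCat.{u} A)) ≅ C :=
  (NatIso.mapHomologicalComplex (rightUnitorNatIso (ModuleCat.{u} A)) (ComplexShape.up ℤ)).app C ≪≫
    (Functor.mapHomologicalComplexIdIso (ModuleCat.{u} A) (ComplexShape.up ℤ)).app C

/-- `M ↦ C ⊗ M` as a functor to the derived category. -/
noncomputable abbrev tenD (C : CochainComplex (ModuleCat.{u} A) ℤ) : ModuleCat.{u} A ⥤ Dual.D A :=
  ten C ⋙ DerivedCategory.Q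

/-- `(- ⊗^L M)(Q C) ≅ Q (C ⊗ M)` for `C` K-projective. -/
theorem nonempty_ltensor_iso (M : ModuleCat.{u} A) [DRing.HasLTensor A M]
    (C : CochainComplex (ModuleCat.{u} A) ℤ) [C.IsKProjective] :
    Nonempty ((DRing.LTensor A M).obj (DerivedCategory.Q.obj C) ≅ (tenD C).obj M) := by
  let α := (DRing.tensorKh A M).totalLeftDerivedCounit DerivedCategory.Qh
    (HomotopyCategory.quasiIso (ModuleCat.{u} A) (ComplexShape.up ℤ))
  have h : IsIso (α.app ((HomotopyCategory.quotient _ _).obj C)) :=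
    Groth.Agent.LoccohB.LBC.isIso_app A _ α C
  exact ⟨(DRing.LTensor A M).mapIso ((DerivedCategory.quotientCompQhIso (ModuleCat.{u} A)).symm.app C) ≪≫
    asIso (α.app ((HomotopyCategory.quotient _ _).obj C)) ≪≫
    (DerivedCategory.Qh).mapIso (((tensorRight M).mapHomotopyCategoryFactors (ComplexShape.up ℤ)).app C) ≪≫
    (DerivedCategory.quotientCompQhIso (ModuleCat.{u} A)).app _⟩

end Ten

section Fin

variable {W K : Dual.D A}

/-- If `K` is a retract of `W^n` via `p, r` with `p_i ≫ r_j = e_ij • 1` and `P` is a module with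
`s_j : P → A`, `g_j : A → P`, `∑ s_j ≫ g_j = 1`, `g_i ≫ s_j = e_ij`, then `K ≅ W ⊗^L P`. -/
theorem nonempty_iso_ltensor {J : Type} [Fintype J] (p : J → (W ⟶ K)) (r : J → (K ⟶ W))
    (e : J → J → A) (hK : ∑ j, r j ≫ p j = 𝟙 K) (hpr : ∀ i j, p i ≫ r j = e i j • 𝟙 W)
    (P : ModuleCat.{u} A) (s : J → (P ⟶ 𝟙_ (ModuleCat.{u} A))) (g : J → (𝟙_ (ModuleCat.{u} A) ⟶ P))
    (hP : ∑ j, s j ≫ g j = 𝟙 P) (hgs : ∀ i j, g i ≫ s j = e i j • 𝟙 _) [DRing.HasLTensor A P] :
    Nonempty (K ≅ (DRing.LTensor A P).obj W) := by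
  obtain ⟨C₀, ⟨e₀⟩⟩ : ∃ C₀ : CochainComplex (ModuleCat.{u} A) ℤ, Nonempty (W ≅ DerivedCategory.Q.obj C₀) :=
    ⟨_, ⟨(DerivedCategory.Q.objObjPreimageIso W).symm⟩⟩
  obtain ⟨C, c, hC, hc, -, -⟩ := Groth.Agent.LoccohB.KProj.exists_kprojective C₀
  have hc' : IsIso (DerivedCategory.Q.map c) := by
    rw [DerivedCategory.isIso_Q_map_iff_quasiIso]
    exact hc
  let eW : W ≅ DerivedCategory.Q.obj C := e₀ ≪≫ (asIso (DerivedCategory.Q.map c)).symm
  let τ : (tenD C).obj (𝟙_ (ModuleCat.{u} A)) ≅ W := DerivedCategory.Q.mapIso (tenUnit C) ≪≫ eW.symm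
  obtain ⟨ψ⟩ := nonempty_ltensor_iso P C
  obtain ⟨φ⟩ := nonempty_iso p r (fun j => (tenD C).map (s j) ≫ τ.hom)
    (fun j => τ.inv ≫ (tenD C).map (g j)) hK (T := (tenD C).obj P)
    (by
      have : ∑ j, ((tenD C).map (s j) ≫ τ.hom) ≫ τ.inv ≫ (tenD C).map (g j) =
          ∑ j, (tenD C).map (s j ≫ g j) := by
        refine Finset.sum_congr rfl fun j _ => ?_
        rw [Category.assoc, Iso.hom_inv_id_assoc, ← CategoryTheory.Functor.map_comp]
      rw [this, ← Functor.map_sum, hP, CategoryTheory.Functor.map_id])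
    (fun i j => by
      rw [hpr, Category.assoc, ← CategoryTheory.Functor.map_comp_assoc, hgs, Functor.map_smul,
        CategoryTheory.Functor.map_id, Linear.smul_comp, Linear.comp_smul, Category.id_comp, Iso.inv_hom_id])
  exact ⟨φ.symm ≪≫ ψ.symm ≪≫ (DRing.LTensor A P).mapIso eW.symm⟩

end Fin

end K175.DualPair
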