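import Groth.Agent.Dual.K175.DualPair2
import Groth.Agent.Pi1C.DualTorsion
import Mathlib.Topology.Connected.Clopen

/-!
# Two dualizing complexes differ by an invertible module and a shift (3)
-/

set_option autoImplicit false
universe w v u
open CategoryTheory Limits Pretriangulated MonoidalCategory
attribute [local instance] HasDerivedCategory.standard

namespace K175.DualPair

open Groth.Agent.LoccohB.FlatLBC Groth.Agent.LoccohB.HomBC Groth.Agent.LoccohB.GorSpread
  Groth.Agent.Dual.H364.Spread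

variable {A : Type u} [CommRing A] [IsNoetherianRing A]

/-- If `K` and `W` are dualizing and locally isomorphic then `K ≅ W ⊗^L P` with `P` invertible. -/
theorem exists_invertible_of_local {W K : Dual.D A} (hW : Dual.IsDualizing A W)
    (hK : Dual.IsDualizing A K)
    (h : ∀ q : PrimeSpectrum A, Nonempty ((GG q.asIdeal).obj W ≅ (GG q.asIdeal).obj K)) :
    ∃ (P : ModuleCat.{u} A) (_ : Module.Invertible A P),
      ∀ [DRing.HasLTensor A P], Nonempty (K ≅ (DRing.LTensor A P).obj W) := by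
  obtain ⟨a, b, _, _, -⟩ := exists_bounds_of_isDualizing hW
  obtain ⟨a', b', _, _, -⟩ := exists_bounds_of_isDualizing hK
  obtain ⟨n, p, r, hpr, hrp⟩ := exists_data W K (fun q hq => by
    obtain ⟨e⟩ := h ⟨q, hq⟩
    exact exists_fIso q W K a b a' b' hW.finite_cohomology hK.finite_cohomology e)
  have hinv : Module.Invertible A (W ⟶ K) :=
    invertible p r hW.toEnd_bijective hK.toEnd_bijective hrp
  have hsmall : Small.{u} (W ⟶ K) := Module.Finite.small.{u} A (W ⟶ K)
  let ε : Shrink.{u} (W ⟶ K) ≃ₗ[A] (W ⟶ K) := Shrink.linearEquiv A (W ⟶ K)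
  let P : ModuleCat.{u} A := ModuleCat.of A (Shrink.{u} (W ⟶ K))
  have hP : Module.Invertible A P := Module.Invertible.congr ε.symm
  refine ⟨P, hP, ?_⟩
  intro _
  let sc := scal hW.toEnd_bijective
  let s : Fin n → (P ⟶ 𝟙_ (ModuleCat.{u} A)) := fun j =>
    ModuleCat.ofHom ((sc ∘ₗ (Linear.rightComp A W (r j))) ∘ₗ ε.toLinearMap)
  let g : Fin n → (𝟙_ (ModuleCat.{u} A) ⟶ P) := fun j =>
    ModuleCat.ofHom (LinearMap.toSpanSingleton A (Shrink.{u} (W ⟶ K)) (ε.symm (p j)))
  refine nonempty_iso_ltensor p r (fun i j => sc (p i ≫ r j)) hrp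
    (fun i j => (scal_smul hW.toEnd_bijective _).symm) P s g ?_ ?_
  · refine ModuleCat.hom_ext (LinearMap.ext fun x => ?_)
    have h1 : (∑ j, s j ≫ g j).hom x = ∑ j, (s j ≫ g j).hom x := by
      rw [ModuleCat.hom_sum, LinearMap.sum_apply]
    refine h1.trans ?_
    apply ε.injective
    rw [map_sum]
    have h2 : ∀ j, ε ((s j ≫ g j).hom x) = sc (ε x ≫ r j) • p j := by
      intro j
      change ε (sc (ε x ≫ r j) • ε.symm (p j)) = _
      rw [map_smul, LinearEquiv.apply_symm_apply]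
    simp_rw [h2]
    have h3 : ∀ j, sc (ε x ≫ r j) • p j = ε x ≫ (r j ≫ p j) := by
      intro j
      conv_rhs => rw [← Category.assoc, ← scal_smul hW.toEnd_bijective (ε x ≫ r j),
        Linear.smul_comp, Category.id_comp]
    simp_rw [h3]
    rw [← Preadditive.comp_sum, hrp, Category.comp_id]
    rfl
  · intro i j
    ext
    change sc ((ε ((1 : A) • ε.symm (p i))) ≫ r j) = sc (p i ≫ r j) • (1 : A)
    rw [one_smul, LinearEquiv.apply_symm_apply, smul_eq_mul, mul_one]

/-- uniqueness of the shift for a nonzero ring -/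
theorem shift_unique {B : Type u} [CommRing B] [Nontrivial B] {W : Dual.D B} (hW : Dual.IsDualizing B W)
    (n m : ℤ) (e : W⟦n⟧ ≅ W⟦m⟧) : n = m := by
  by_contra hne
  let e' : W ≅ W⟦m - n⟧ := (shiftFunctorCompIsoId (Dual.D B) n (-n) (by lia)).symm.app W ≪≫
    (shiftFunctor (Dual.D B) (-n)).mapIso e ≪≫
      ((shiftFunctorAdd' (Dual.D B) m (-n) (m - n) (by lia)).symm.app W)
  have hs := hW.ext_self_subsingleton (m - n) (by lia)
  have h0 : 𝟙 W = 0 := by
    rw [← e'.hom_inv_id, Subsingleton.elim e'.hom 0, zero_comp]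
  have h1 : (1 : B) = 0 := hW.toEnd_bijective.1 (by
    change (1 : B) • 𝟙 W = (0 : B) • 𝟙 W
    rw [h0, smul_zero, smul_zero])
  exact one_ne_zero h1

/-- `FIso X K f` gives an isomorphism at all primes not containing `f`. -/
lemma FIso.iso {X K : Dual.D A} {f : A} (h : FIso X K f) (q : Ideal A) [q.IsPrime] (hf : f ∉ q) :
    Nonempty ((GG q).obj X ≅ (GG q).obj K) := by
  obtain ⟨p, r, h1, h2⟩ := h
  have hu : IsUnit (algebraMap A (Localization.AtPrime q) f) :=
    IsLocalization.map_units (Localization.AtPrime q) (⟨f, hf⟩ : q.primeCompl)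
  obtain ⟨u, hu⟩ := hu
  refine ⟨⟨(GG q).map p, (u⁻¹ : (Localization.AtPrime q)ˣ).1 • (GG q).map r, ?_, ?_⟩⟩
  · rw [Linear.comp_smul, ← CategoryTheory.Functor.map_comp, h1, semi_map_smul A (Localization.AtPrime q),
      ← hu, CategoryTheory.Functor.map_id, smul_smul, Units.inv_mul, one_smul]
  · rw [Linear.smul_comp, ← CategoryTheory.Functor.map_comp, h2, semi_map_smul A (Localization.AtPrime q),
      ← hu, CategoryTheory.Functor.map_id, smul_smul, Units.inv_mul, one_smul]

/-- **Uniqueness of dualizing complexes over a connected Noetherian affine scheme.** -/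
theorem exists_invertible [ConnectedSpace (PrimeSpectrum A)] {ω ω' : Dual.D A}
    (hω : Dual.IsDualizing A ω) (hω' : Dual.IsDualizing A ω') :
    ∃ (P : ModuleCat.{u} A) (_ : Module.Invertible A P) (n : ℤ),
      ∀ [DRing.HasLTensor A P], Nonempty (ω' ≅ ((DRing.LTensor A P).obj ω)⟦n⟧) := by
  obtain ⟨a, b, _, _, -⟩ := exists_bounds_of_isDualizing hω
  let S : ℤ → Set (PrimeSpectrum A) := fun n =>
    {q | Nonempty ((GG q.asIdeal).obj ω ≅ (GG q.asIdeal).obj (ω'⟦-n⟧))}
  have hdz : ∀ n : ℤ, Dual.IsDualizing A (ω'⟦-n⟧) := fun n =>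
    Groth.Agent.Pi1C.DualTorsion.isDualizing_shift hω' (-n)
  have hopen : ∀ n, IsOpen (S n) := by
    intro n
    rw [isOpen_iff_forall_mem_open]
    rintro q ⟨e⟩
    obtain ⟨a', b', _, _, -⟩ := exists_bounds_of_isDualizing (hdz n)
    obtain ⟨f, hf, hF⟩ := exists_fIso q.asIdeal ω (ω'⟦-n⟧) a b a' b' hω.finite_cohomology
      (hdz n).finite_cohomology e
    refine ⟨PrimeSpectrum.basicOpen f, ?_, (PrimeSpectrum.basicOpen f).isOpen, hf⟩
    intro q' hq'
    exact hF.iso q'.asIdeal hq'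
  have hcov : ∀ q : PrimeSpectrum A, ∃ n, q ∈ S n := by
    intro q
    obtain ⟨n, ⟨e⟩⟩ := Groth.Agent.LoccohA.DzUnique3.unique_up_to_shift
      (isDualizing_atPrime q.asIdeal hω') (isDualizing_atPrime q.asIdeal hω)
    refine ⟨-n, ⟨e ≪≫ (((GG q.asIdeal).commShiftIso n).app ω').symm ≪≫ ?_⟩⟩
    exact (GG q.asIdeal).mapIso (eqToIso (by rw [neg_neg]))
  have hdisj : ∀ n m (q : PrimeSpectrum A), q ∈ S n → q ∈ S m → n = m := by
    rintro n m q ⟨e⟩ ⟨e'⟩
    have h1 := shift_unique (isDualizing_atPrime q.asIdeal hω') (-n) (-m)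
      ((((GG q.asIdeal).commShiftIso (-n)).app ω').symm ≪≫ e.symm ≪≫ e' ≪≫
        ((GG q.asIdeal).commShiftIso (-m)).app ω')
    lia
  obtain ⟨q₀⟩ := (inferInstance : Nonempty (PrimeSpectrum A))
  obtain ⟨n, hn⟩ := hcov q₀
  have hclopen : IsClopen (S n) := by
    refine ⟨⟨?_⟩, hopen n⟩
    have : (S n)ᶜ = ⋃ m : {m : ℤ // m ≠ n}, S m := by
      ext q
      simp only [Set.mem_compl_iff, Set.mem_iUnion]
      constructor
      · intro hq
        obtain ⟨m, hm⟩ := hcov q
        exact ⟨⟨m, fun h => hq (h ▸ hm)⟩, hm⟩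
      · rintro ⟨⟨m, hmn⟩, hm⟩ hq
        exact hmn (hdisj m n q hm hq)
    rw [this]
    exact isOpen_iUnion fun m => hopen m
  have huniv : S n = Set.univ := hclopen.eq_univ ⟨q₀, hn⟩
  obtain ⟨P, hP, h⟩ := exists_invertible_of_local hω (hdz n) (fun q => by
    have : q ∈ S n := huniv ▸ Set.mem_univ q
    exact this)
  refine ⟨P, hP, n, ?_⟩
  intro _
  obtain ⟨e⟩ := h
  exact ⟨(shiftFunctorCompIsoId (Dual.D A) (-n) n (by lia)).symm.app ω' ≪≫
    (shiftFunctor (Dual.D A) n).mapIso e⟩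

end K175.DualPair
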