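import Mathlib.CategoryTheory.Monoidal.Rigid.Basic
import Mathlib.CategoryTheory.Monoidal.Braided.Basic
import Mathlib.CategoryTheory.Yoneda

/-!
# The internal dual of a dualizable object

`C` symmetric monoidal, `L` dualizable, `adj : L ⊗ - ⊣ H`. The coevaluation `cc : 𝟙 ⟶ H(𝟙) ⊗ L` and its
naturality in `L`.
-/

set_option autoImplicit false
universe v u
open CategoryTheory MonoidalCategory ExactPairing

namespace K175.FLFDual

variable {C : Type u} [Category.{v} C] [MonoidalCategory C] [SymmetricCategory C]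

section

variable (L L' : C) [ExactPairing L L'] (H : C ⥤ C) (adj : tensorLeft L ⊣ H)

/-- The comparison `L' ⟶ H(𝟙)`. -/
def iota : L' ⟶ H.obj (𝟙_ C) := adj.homEquiv L' (𝟙_ C) ((β_ L L').hom ≫ ε_ L L')

lemma iota_spec : L ◁ iota L L' H adj ≫ adj.counit.app (𝟙_ C) = (β_ L L').hom ≫ ε_ L L' := by
  have h := (adj.homEquiv L' (𝟙_ C)).symm_apply_apply ((β_ L L').hom ≫ ε_ L L')
  rw [Adjunction.homEquiv_counit] at h
  exact h

instance isIso_iota : IsIso (iota L L' H adj) := by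
  apply isIso_of_yoneda_map_bijective
  intro M
  have h1 : Function.Bijective (fun g : M ⟶ L' => g ▷ L ≫ ε_ L L') := by
    have h2 := (tensorRightHomEquiv M L L' (𝟙_ C)).symm.bijective
    have h3 : Function.Bijective (fun g : M ⟶ L' => g ≫ (λ_ L').inv) :=
      ⟨fun a b h => by
        dsimp only at h
        rwa [cancel_mono] at h, fun b => ⟨b ≫ (λ_ L').hom, by simp⟩⟩
    have h4 : (fun g : M ⟶ L' => g ▷ L ≫ ε_ L L') =
        (tensorRightHomEquiv M L L' (𝟙_ C)).symm ∘ (fun g : M ⟶ L' => g ≫ (λ_ L').inv) := by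
      funext g
      change _ = (g ≫ (λ_ L').inv) ▷ L ≫ (α_ _ _ _).hom ≫ _ ◁ ε_ _ _ ≫ (ρ_ _).hom
      have h8 : (λ_ (𝟙_ C)).inv ≫ (ρ_ (𝟙_ C)).hom = 𝟙 _ := by rw [← unitors_equal, Iso.inv_hom_id]
      simp [h8]
    rw [h4]
    exact h2.comp h3
  have h5 : Function.Bijective (fun g : M ⊗ L ⟶ 𝟙_ C => (β_ L M).hom ≫ g) :=
    ⟨fun a b h => by
      dsimp only at h
      rwa [cancel_epi] at h, fun b => ⟨(β_ L M).inv ≫ b, by simp⟩⟩
  have h6 : (fun g : M ⟶ L' => g ≫ iota L L' H adj) = (adj.homEquiv M (𝟙_ C)) ∘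
      (fun g : M ⊗ L ⟶ 𝟙_ C => (β_ L M).hom ≫ g) ∘ (fun g : M ⟶ L' => g ▷ L ≫ ε_ L L') := by
    funext g
    apply (adj.homEquiv M (𝟙_ C)).symm.injective
    dsimp only [Function.comp_apply]
    rw [Equiv.symm_apply_apply, Adjunction.homEquiv_counit]
    change L ◁ (g ≫ iota L L' H adj) ≫ _ = _
    rw [MonoidalCategory.whiskerLeft_comp, Category.assoc, iota_spec, ← BraidedCategory.braiding_naturality_right_assoc]
  rw [h6]
  exact (adj.homEquiv M (𝟙_ C)).bijective.comp (h5.comp h1)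

/-- The coevaluation `𝟙 ⟶ H(𝟙) ⊗ L`. -/
def cc : 𝟙_ C ⟶ H.obj (𝟙_ C) ⊗ L := η_ L L' ≫ (β_ L L').hom ≫ iota L L' H adj ▷ L

lemma cc_bijective (F : C) : Function.Bijective (fun g : H.obj (𝟙_ C) ⟶ F => cc L L' H adj ≫ g ▷ L) := by
  have h1 : Function.Bijective (fun g : H.obj (𝟙_ C) ⟶ F => iota L L' H adj ≫ g) :=
    ⟨fun a b h => by
      dsimp only at h
      rwa [cancel_epi] at h, fun b => ⟨inv (iota L L' H adj) ≫ b, by simp⟩⟩
  have h2 : Function.Bijective (fun g : L' ⟶ F => η_ L L' ≫ L ◁ g) := by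
    have h3 := (tensorLeftHomEquiv (𝟙_ C) L L' F).symm.bijective
    refine (Function.Bijective.of_comp_iff' h3 _).1 ?_
    have h4 : (tensorLeftHomEquiv (𝟙_ C) L L' F).symm ∘ (fun g : L' ⟶ F => η_ L L' ≫ L ◁ g) =
        (fun g : L' ⟶ F => (ρ_ L').hom ≫ g) := by
      funext g
      exact tensorLeftHomEquiv_symm_coevaluation_comp_whiskerLeft g
    rw [h4]
    exact ⟨fun a b h => by
      dsimp only at h
      rwa [cancel_epi] at h, fun b => ⟨(ρ_ L').inv ≫ b, by simp⟩⟩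
  have h5 : Function.Bijective (fun g : 𝟙_ C ⟶ L ⊗ F => g ≫ (β_ L F).hom) :=
    ⟨fun a b h => by
      dsimp only at h
      rwa [cancel_mono] at h, fun b => ⟨b ≫ (β_ L F).inv, by simp⟩⟩
  have h6 : (fun g : H.obj (𝟙_ C) ⟶ F => cc L L' H adj ≫ g ▷ L) = (fun g : 𝟙_ C ⟶ L ⊗ F => g ≫ (β_ L F).hom) ∘
      (fun g : L' ⟶ F => η_ L L' ≫ L ◁ g) ∘ (fun g : H.obj (𝟙_ C) ⟶ F => iota L L' H adj ≫ g) := by
    funext g
    dsimp only [Function.comp_apply]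
    rw [cc, Category.assoc, Category.assoc, Category.assoc, ← comp_whiskerRight,
      BraidedCategory.braiding_naturality_right]
  rw [h6]
  exact h5.comp (h2.comp h1)

end

section

variable (L₁ L₁' : C) [ExactPairing L₁ L₁'] (H₁ : C ⥤ C) (adj₁ : tensorLeft L₁ ⊣ H₁)
  (L₂ L₂' : C) [ExactPairing L₂ L₂'] (H₂ : C ⥤ C) (adj₂ : tensorLeft L₂ ⊣ H₂) (a : L₁ ⟶ L₂)

/-- The dual map `H₂(𝟙) ⟶ H₁(𝟙)`. -/
def av : H₂.obj (𝟙_ C) ⟶ H₁.obj (𝟙_ C) :=
  adj₁.homEquiv (H₂.obj (𝟙_ C)) (𝟙_ C) (a ▷ H₂.obj (𝟙_ C) ≫ adj₂.counit.app (𝟙_ C))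

lemma av_spec : L₁ ◁ av L₁ H₁ adj₁ L₂ H₂ adj₂ a ≫ adj₁.counit.app (𝟙_ C) =
    a ▷ H₂.obj (𝟙_ C) ≫ adj₂.counit.app (𝟙_ C) := by
  have h := (adj₁.homEquiv (H₂.obj (𝟙_ C)) (𝟙_ C)).symm_apply_apply
    (a ▷ H₂.obj (𝟙_ C) ≫ adj₂.counit.app (𝟙_ C))
  rw [Adjunction.homEquiv_counit] at h
  exact h

theorem cc_av : cc L₂ L₂' H₂ adj₂ ≫ av L₁ H₁ adj₁ L₂ H₂ adj₂ a ▷ L₂ =
    cc L₁ L₁' H₁ adj₁ ≫ H₁.obj (𝟙_ C) ◁ a := by
  letI : HasRightDual L₁ := { rightDual := L₁' }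
  letI : HasRightDual L₂ := { rightDual := L₂' }
  let a' : L₂' ⟶ L₁' := aᘁ
  have h1 : η_ L₂ L₂' ≫ L₂ ◁ a' = η_ L₁ L₁' ≫ a ▷ L₁' := coevaluation_comp_rightAdjointMate a
  have h2 : a' ▷ L₁ ≫ ε_ L₁ L₁' = L₂' ◁ a ≫ ε_ L₂ L₂' := rightAdjointMate_comp_evaluation a
  have h3 : iota L₂ L₂' H₂ adj₂ ≫ av L₁ H₁ adj₁ L₂ H₂ adj₂ a = a' ≫ iota L₁ L₁' H₁ adj₁ := by
    apply (adj₁.homEquiv _ (𝟙_ C)).symm.injective
    rw [Adjunction.homEquiv_counit, Adjunction.homEquiv_counit]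
    change L₁ ◁ (iota L₂ L₂' H₂ adj₂ ≫ av L₁ H₁ adj₁ L₂ H₂ adj₂ a) ≫ adj₁.counit.app (𝟙_ C) =
      L₁ ◁ (a' ≫ iota L₁ L₁' H₁ adj₁) ≫ adj₁.counit.app (𝟙_ C)
    rw [MonoidalCategory.whiskerLeft_comp, Category.assoc, av_spec, MonoidalCategory.whiskerLeft_comp,
      Category.assoc, iota_spec, whisker_exchange_assoc, iota_spec, BraidedCategory.braiding_naturality_right_assoc,
      h2, BraidedCategory.braiding_naturality_left_assoc]
  rw [cc, cc, Category.assoc, Category.assoc, ← comp_whiskerRight, h3, comp_whiskerRight,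
    ← BraidedCategory.braiding_naturality_right_assoc, reassoc_of% h1, Category.assoc, Category.assoc,
    BraidedCategory.braiding_naturality_left_assoc, whisker_exchange]

end

end K175.FLFDual
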