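import Groth.Agent.LoccohB.LocDualUnb
import Groth.Agent.LoccohB.RGammaHDI

/-!
# Local duality over a Noetherian local ring (not assumed complete) for bounded complexes with finite cohomology

`H^i_m(K) ≅ Hom_A(Hom(K, ω[-i]), E)`.
-/

set_option autoImplicit false
universe v w u
open CategoryTheory Limits Opposite Pretriangulated
attribute [local instance] HasDerivedCategory.standard

namespace K175.LDBounded

open Groth.Agent.LoccohB.LocDualBasic Groth.Agent.LoccohB.LocDualDev Groth.Agent.LoccohB.LocDualVan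
  Groth.Agent.LoccohB.LocDualTors Groth.Agent.LoccohB.LocDualElt Groth.Agent.LoccohB.LocDualLoc
  Groth.Agent.LoccohB.LocDualInj Groth.Agent.LoccohB.LocDualBaer Groth.Agent.LoccohB.LocDualMod
  Groth.Agent.LoccohB.LocDualCx Groth.Agent.LoccohB.LocDualFinal Groth.Agent.LoccohB.LocDualHull
  Groth.Agent.LoccohB.LocDualVanish Groth.Agent.LoccohB.LocDualUnb
open IsLocalRing

variable {A : Type u} [CommRing A] [IsLocalRing A] [IsNoetherianRing A]
  (ω : Dual.D A) (hω : Dual.IsDualizing A ω) (hn : Dual.IsNormalized A ω)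
  (E : Type u) [AddCommGroup E] [Module A E]
  (f : ResidueField A →ₗ[A] E) (hf : InjHull.IsInjectiveHull f)

include hω hn hf in
/-- `H^0_m(K) ≅ Hom(Hom(K, ω), E)` for `K` bounded with finite cohomology. -/
theorem TI_equiv (K : Dual.D A) (c d : ℤ) (hc : K.IsGE c) (hd : K.IsLE d)
    (hK : ∀ i : ℤ, Module.Finite A (Dual.HD A K i)) :
    Nonempty ((TI (maximalIdeal A)).obj K ≃ₗ[A] ((K ⟶ ω) →ₗ[A] E)) := by
  obtain ⟨h3, ⟨e, he1, he2⟩, hfin⟩ := normData ω hω hn
  obtain ⟨ψ⟩ := nonempty_equiv_HL ω h3 e he1 he2 E f hf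
  have hB0 := B_complex (maximalIdeal A) ω h3 e he1 he2 hfin K c d hc hd hK 0
  have hB : B (maximalIdeal A) ω K :=
    B.of_iso (maximalIdeal A) ((shiftFunctorZero (Dual.D A) ℤ).app K) hB0
  let e1 : HL (maximalIdeal A) K ≃ₗ[A] ((K ⟶ ω) →ₗ[A] E) :=
    (LinearEquiv.ofBijective _ hB).trans (LinearEquiv.congrRight ψ.symm)
  exact ⟨(locEquiv K).trans e1⟩

include hω hn hf in
/-- `H^i_m(K) ≅ Hom(Hom(K, ω[-i]), E)` for `K` bounded with finite cohomology. -/
theorem HDI_equiv (K : Dual.D A) (c d : ℤ) (hc : K.IsGE c) (hd : K.IsLE d)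
    (hK : ∀ i : ℤ, Module.Finite A (Dual.HD A K i)) (i : ℤ) :
    Nonempty (Dual2.HDI A (maximalIdeal A) K i ≃ₗ[A] ((K ⟶ ω⟦(-i)⟧) →ₗ[A] E)) := by
  have hK' : ∀ j : ℤ, Module.Finite A (Dual.HD A (K⟦i⟧) j) := by
    intro j
    have h : Module.Finite A (((DerivedCategory.homologyFunctor (ModuleCat.{u} A) 0).shift
      (i + j)).obj K) := hK (i + j)
    exact Module.Finite.equiv (((DerivedCategory.homologyFunctor (ModuleCat.{u} A) 0).shiftIso
      i j (i + j) (by omega)).app K).symm.toLinearEquiv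
  have hc' : (K⟦i⟧).IsGE (c - i) := DerivedCategory.TStructure.t.isGE_shift K c i (c - i) (by omega)
  have hd' : (K⟦i⟧).IsLE (d - i) := DerivedCategory.TStructure.t.isLE_shift K d i (d - i) (by omega)
  obtain ⟨e⟩ := TI_equiv ω hω hn E f hf (K⟦i⟧) (c - i) (d - i) hc' hd' hK'
  exact ⟨e.trans (LinearEquiv.congrLeft E A (shiftEquiv K ω i (-i) (by omega)).symm)⟩

include hω hn hf in
/-- `H^i(RΓ_m K) ≅ Hom(Hom(K, ω[-i]), E)` for `K` bounded with finite cohomology. -/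
theorem rgamma_equiv [DRing.HasRgammaI (maximalIdeal A)]
    (K : Dual.D A) (c d : ℤ) (hc : K.IsGE c) (hd : K.IsLE d)
    (hK : ∀ i : ℤ, Module.Finite A (Dual.HD A K i)) (i : ℤ) :
    Nonempty (Dual.HD A ((DRing.RgammaI (maximalIdeal A)).obj K) i ≃ₗ[A]
      ((K ⟶ ω⟦(-i)⟧) →ₗ[A] E)) := by
  obtain ⟨e⟩ := HDI_equiv ω hω hn E f hf K c d hc hd hK i
  obtain ⟨e'⟩ := Groth.Agent.LoccohB.RGammaHDI.hd_rgamma_equiv (maximalIdeal A) K i
  exact ⟨e'.trans e⟩

/-- boundedness of an object from vanishing of cohomology. -/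
lemma isGE_of_subsingleton {A : Type u} [CommRing A] (K : Dual.D A) (a : ℤ)
    (h : ∀ i : ℤ, i < a → Subsingleton (Dual.HD A K i)) : K.IsGE a := by
  rw [DerivedCategory.isGE_iff]
  intro i hi
  have := h i hi
  exact ModuleCat.isZero_of_subsingleton _

lemma isLE_of_subsingleton {A : Type u} [CommRing A] (K : Dual.D A) (b : ℤ)
    (h : ∀ i : ℤ, b < i → Subsingleton (Dual.HD A K i)) : K.IsLE b := by
  rw [DerivedCategory.isLE_iff]
  intro i hi
  have := h i hi
  exact ModuleCat.isZero_of_subsingleton _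

include hω hn hf in
/-- `H^i(RΓ_m K) = 0` iff `Hom(K, ω[-i]) = 0`. -/
theorem subsingleton_rgamma_iff [DRing.HasRgammaI (maximalIdeal A)]
    (K : Dual.D A) (c d : ℤ) (hc : K.IsGE c) (hd : K.IsLE d)
    (hK : ∀ i : ℤ, Module.Finite A (Dual.HD A K i)) (i : ℤ) :
    Subsingleton (Dual.HD A ((DRing.RgammaI (maximalIdeal A)).obj K) i) ↔
      Subsingleton (K ⟶ ω⟦(-i)⟧) := by
  obtain ⟨e⟩ := rgamma_equiv ω hω hn E f hf K c d hc hd hK i
  constructor
  · intro h
    have : Subsingleton ((K ⟶ ω⟦(-i)⟧) →ₗ[A] E) := e.symm.toEquiv.subsingleton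
    exact Groth.Agent.Localalg.Matlis.subsingleton_of_dual hf (K ⟶ ω⟦(-i)⟧)
  · intro h
    have : Subsingleton ((K ⟶ ω⟦(-i)⟧) →ₗ[A] E) :=
      ⟨fun a b => LinearMap.ext fun x => by rw [Subsingleton.elim x 0, map_zero, map_zero]⟩
    exact e.toEquiv.subsingleton

end K175.LDBounded
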