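import Groth.Agent.Dual.K175.GMEquiv
import Groth.Agent.Dual.K175.LDBounded
import Groth.Agent.Localalg.Matlis5
import Groth.Agent.LoccohB.FaltF
import Groth.Agent.LoccohB.HomBC2

/-!
# Torsion approximations of perverse coherent complexes: every bounded complex with Artinian cohomology
is `RΓ_m` of a bounded complex with finite cohomology
-/

set_option autoImplicit false
set_option backward.isDefEq.respectTransparency false
universe u
open CategoryTheory Limits Pretriangulated IsLocalRing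
attribute [local instance] HasDerivedCategory.standard

namespace K175.GMArt

open Groth.Agent.LoccohB Groth.Agent.LoccohB.FInv Groth.Agent.LoccohB.RHomApprox K175.GMEquiv

variable {A : Type u} [CommRing A]

/-- bounded with finite cohomology -/
structure FinB (M : Dual.D A) : Prop where
  fin : ∀ i : ℤ, Module.Finite A (Dual.HD A M i)
  bdd : ∃ a b : ℤ, ∀ i : ℤ, (i < a ∨ b < i) → Subsingleton (Dual.HD A M i)

lemma FinB.of_iso {M N : Dual.D A} (h : FinB M) (e : M ≅ N) : FinB N where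
  fin i := by
    have := h.fin i
    exact Module.Finite.equiv ((DerivedCategory.homologyFunctor (ModuleCat.{u} A) i).mapIso e).toLinearEquiv
  bdd := by
    obtain ⟨a, b, hab⟩ := h.bdd
    refine ⟨a, b, fun i hi => ?_⟩
    have := hab i hi
    exact ((DerivedCategory.homologyFunctor (ModuleCat.{u} A) i).mapIso e).toLinearEquiv.symm.toEquiv.subsingleton

lemma FinB.shift {M : Dual.D A} (h : FinB M) (n : ℤ) : FinB (M⟦n⟧) where
  fin i := by
    have := h.fin (n + i)
    exact Module.Finite.equiv (DualShift.shiftHD M n i (n + i) rfl).symm.toLinearEquiv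
  bdd := by
    obtain ⟨a, b, hab⟩ := h.bdd
    refine ⟨a - n, b - n, fun i hi => ?_⟩
    have := hab (n + i) (by omega)
    exact (DualShift.shiftHD M n i (n + i) rfl).toLinearEquiv.toEquiv.subsingleton

lemma finB_zero {Z : Dual.D A} (hZ : IsZero Z) : FinB Z := by
  have h : ∀ i, Subsingleton (Dual.HD A Z i) := fun i =>
    ModuleCat.subsingleton_of_isZero (Functor.map_isZero (DerivedCategory.homologyFunctor (ModuleCat.{u} A) i) hZ)
  exact ⟨fun i => by have := h i; infer_instance, 0, 0, fun i _ => h i⟩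

lemma finB_mid [IsNoetherianRing A] (T : Triangle (Dual.D A)) (hT : T ∈ distTriang (Dual.D A))
    (h1 : FinB T.obj₁) (h3 : FinB T.obj₃) : FinB T.obj₂ := by
  have hex : ∀ i, Function.Exact
      ((DerivedCategory.homologyFunctor (ModuleCat.{u} A) i).map T.mor₁).hom
      ((DerivedCategory.homologyFunctor (ModuleCat.{u} A) i).map T.mor₂).hom := by
    intro i
    have h := DerivedCategory.HomologySequence.exact₂ T hT i
    rw [ShortComplex.moduleCat_exact_iff] at h
    intro y
    constructor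
    · intro hy
      obtain ⟨x, hx⟩ := h y hy
      exact ⟨x, hx⟩
    · rintro ⟨x, rfl⟩
      exact (congrArg (fun φ => φ.hom x) ((DerivedCategory.homologyFunctor (ModuleCat.{u} A) i).map_comp T.mor₁ T.mor₂).symm).trans (by
        rw [comp_distTriang_mor_zero₁₂ T hT, Functor.map_zero])
  constructor
  · intro i
    have := h1.fin i
    have := h3.fin i
    have := isNoetherian_of_isNoetherianRing_of_finite A (Dual.HD A T.obj₁ i)
    have := isNoetherian_of_isNoetherianRing_of_finite A (Dual.HD A T.obj₃ i)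
    have := isNoetherian_of_range_eq_ker
      ((DerivedCategory.homologyFunctor (ModuleCat.{u} A) i).map T.mor₁).hom
      ((DerivedCategory.homologyFunctor (ModuleCat.{u} A) i).map T.mor₂).hom (by
        ext y
        exact (hex i y).symm)
    infer_instance
  · obtain ⟨a, b, hab⟩ := h1.bdd
    obtain ⟨a', b', hab'⟩ := h3.bdd
    refine ⟨min a a', max b b', fun i hi => ?_⟩
    have s1 := hab i (by omega)
    have s3 := hab' i (by omega)
    refine subsingleton_of_forall_eq 0 fun y => ?_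
    obtain ⟨x, hx⟩ := (hex i y).1 (Subsingleton.elim (α := Dual.HD A T.obj₃ i) _ _)
    rw [← hx, Subsingleton.elim (α := Dual.HD A T.obj₁ i) x 0, map_zero]

/-- the shift of an approximation is an approximation. -/
lemma isApprox_shift {I : Ideal A} {G K : Dual.D A} {α : G ⟶ K} (h : IsApprox I α) (n : ℤ) :
    IsApprox I (α⟦n⟧') where
  isTors := h.isTors.shift n
  bij T hT := bij_shift α n T (h.bij _ (hT.shift (-n)))

/-- `P(K)`: there is a torsion approximation `K ⟶ M` with `M` bounded with finite cohomology. -/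
def HasModel (I : Ideal A) : ObjectProperty (Dual.D A) := fun K =>
  ∃ (M : Dual.D A) (α : K ⟶ M), FinB M ∧ IsApprox I α

instance (I : Ideal A) : (HasModel I).IsClosedUnderIsomorphisms where
  of_iso {K L} e h := by
    obtain ⟨M, α, hM, hα⟩ := h
    exact ⟨M, e.symm.hom ≫ α, hM, LDual.isApprox_comp_iso hα e.symm⟩

lemma hasModel_shift {I : Ideal A} {K : Dual.D A} (h : HasModel I K) (n : ℤ) : HasModel I (K⟦n⟧) := by
  obtain ⟨M, α, hM, hα⟩ := h
  exact ⟨M⟦n⟧, α⟦n⟧', hM.shift n, isApprox_shift hα n⟩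

lemma hasModel_zero {I : Ideal A} {Z : Dual.D A} (hZ : IsZero Z) : HasModel I Z := by
  refine ⟨Z, 𝟙 Z, finB_zero hZ, fun i => ?_, fun T _ => bij_comp_hom T (Iso.refl Z)⟩
  have h : Subsingleton (Dual.HD A Z i) :=
    ModuleCat.subsingleton_of_isZero (Functor.map_isZero (DerivedCategory.homologyFunctor (ModuleCat.{u} A) i) hZ)
  exact fun x => ⟨0, fun a _ => Subsingleton.elim _ _⟩

/-- extensions -/
lemma hasModel_mid [IsNoetherianRing A] {I : Ideal A} [IsAdicComplete I A] [DRing.HasRgammaI I]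
    (T : Triangle (Dual.D A)) (hT : T ∈ distTriang (Dual.D A))
    (h1 : HasModel I T.obj₁) (h3 : HasModel I T.obj₃) : HasModel I T.obj₂ := by
  obtain ⟨M₁, α₁, hM₁, hα₁⟩ := h1
  obtain ⟨M₃, α₃, hM₃, hα₃⟩ := h3
  have hc : DRing.IsDerivedComplete I (M₁⟦(1 : ℤ)⟧) :=
    isDerivedComplete_of_finite I _ (hM₁.shift 1).fin
  obtain ⟨δ, hδ⟩ := (bijective_precomp (IsNoetherian.noetherian I) hα₃ _ hc).2 (T.mor₃ ≫ α₁⟦(1 : ℤ)⟧')
  dsimp only at hδ
  obtain ⟨M₂, f, g, hT'⟩ := distinguished_cocone_triangle₂ δ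
  obtain ⟨β, hβ1, hβ2⟩ := complete_distinguished_triangle_morphism₂ _ _ hT hT' α₁ α₃ hδ.symm
  let φ : T ⟶ Triangle.mk f g δ := ⟨α₁, β, α₃, hβ1, hβ2, hδ.symm⟩
  exact ⟨M₂, β, finB_mid _ hT' hM₁ hM₃, isApprox_mid T (Triangle.mk f g δ) hT hT' φ hα₁ hα₃⟩

section Local

variable [IsLocalRing A] [IsNoetherianRing A] [IsAdicComplete (maximalIdeal A) A]
  [DRing.HasRgammaI (maximalIdeal A)]
  {ω : Dual.D A} (hω : Dual.IsDualizing A ω) (hn : Dual.IsNormalized A ω)

/-- `M` concentrated in degree `0` with `H^0(M) ≅ N`. -/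
lemma nonempty_iso_inD (X : Dual.D A) (N : Type u) [AddCommGroup N] [Module A N]
    (h : ∀ i : ℤ, i ≠ 0 → Subsingleton (Dual.HD A X i)) (e : Nonempty (Dual.HD A X 0 ≃ₗ[A] N)) :
    Nonempty (Dual.inD A N ≅ X) := by
  have h1 : X.IsGE 0 := K175.LDBounded.isGE_of_subsingleton X 0 fun i hi => h i hi.ne
  have h2 : X.IsLE 0 := K175.LDBounded.isLE_of_subsingleton X 0 fun i hi => h i hi.ne'
  obtain ⟨e'⟩ := Devissage.nonempty_iso_single X 0
  obtain ⟨e⟩ := e
  exact ⟨(e' ≪≫ (DerivedCategory.singleFunctor (ModuleCat.{u} A) 0).mapIso e.toModuleIso).symm⟩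

include hω hn in
/-- Artinian modules have models. -/
theorem hasModel_inD (N : Type u) [AddCommGroup N] [Module A N] [IsArtinian A N] :
    HasModel (maximalIdeal A) (Dual.inD A N) := by
  obtain ⟨E, _, _, f, hf⟩ :=
      Groth.Agent.Localalg.InjHull.exists_injective_hull A (ResidueField A)
  have hD : Module.Finite A (N →ₗ[A] E) := Groth.Agent.Localalg.Matlis.finite_dual_of_isArtinian hf N
  obtain ⟨J, a, b, hJ, ⟨eJ⟩⟩ := BidualD.exists_model ω hω
  have := hJ.isKInjective
  let C : DRing.Cx A := (CochainComplex.singleFunctor (ModuleCat.{u} A) 0).obj (ModuleCat.of A (N →ₗ[A] E))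
  let eC : DRing.toD C ≅ Dual.inD A (N →ₗ[A] E) :=
    ((DerivedCategory.singleFunctorIsoCompQ (ModuleCat.{u} A) 0).symm.app (ModuleCat.of A (N →ₗ[A] E)))
  have hCf : ∀ i : ℤ, Module.Finite A (Dual.HD A (DRing.toD C) i) := by
    intro i
    have : Module.Finite A (Dual.HD A (Dual.inD A (N →ₗ[A] E)) i) := by
      by_cases hi : i = 0
      · subst hi
        exact Module.Finite.equiv (K230.DCLink.inDIso (A := A) (N →ₗ[A] E)).symm
      · have := K230.DCLink.subsingleton_HD_inD (A := A) (N →ₗ[A] E) i hi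
        infer_instance
    exact Module.Finite.equiv ((DerivedCategory.homologyFunctor (ModuleCat.{u} A) i).mapIso eC.symm).toLinearEquiv
  have hC : ∀ i, Module.Finite A (C.homology i) := fun i => by
    have := hCf i
    exact Module.Finite.equiv (HomCxHD.hdEquiv C i)
  have hev := hJ.quasiIso_ev C hC
  let M : Dual.D A := DRing.toD (DRing.homCx C J)
  have hMfin : ∀ i, Module.Finite A (Dual.HD A M i) := fun i => by
    have := hJ.finite_homology_homCx C hC i
    exact Module.Finite.equiv (HomCxHD.hdEquiv (DRing.homCx C J) i).symm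
  have hMbdd : ∃ a b : ℤ, ∀ i : ℤ, (i < a ∨ b < i) → Subsingleton (Dual.HD A M i) := by
    obtain ⟨a, b, hab⟩ := hω.finite_injective_dimension
    refine ⟨a, b, fun i hi => ?_⟩
    have h1 := hab (N →ₗ[A] E) i hi
    have h2 : Subsingleton (DRing.toD C ⟶ (DRing.toD J)⟦i⟧) := by
      have : (DRing.toD C ⟶ (DRing.toD J)⟦i⟧) ≃ (Dual.inD A (N →ₗ[A] E) ⟶ ω⟦i⟧) :=
        (Iso.homCongr eC ((shiftFunctor (Dual.D A) i).mapIso eJ))
      exact this.subsingleton
    exact ((HomCxHD.hdEquiv (DRing.homCx C J) i) ≪≫ₗ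
      (HomCxHD.homologyEquiv C J i (HomCxHD.computes_of_isKInjective C J))).toEquiv.subsingleton
  have hM : FinB M := ⟨hMfin, hMbdd⟩
  obtain ⟨c, d, hcd⟩ := hMbdd
  have hGE : M.IsGE c := K175.LDBounded.isGE_of_subsingleton M c fun i hi => hcd i (Or.inl hi)
  have hLE : M.IsLE d := K175.LDBounded.isLE_of_subsingleton M d fun i hi => hcd i (Or.inr hi)
  -- maps into `ω⟦j⟧`
  have key : ∀ j : ℤ, Nonempty ((M ⟶ ω⟦j⟧) ≃ₗ[A] Dual.HD A (Dual.inD A (N →ₗ[A] E)) j) := by
    intro j
    have h1 : QuasiIsoAt (HomCx.ev C J) j := inferInstance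
    have h2 : IsIso (HomologicalComplex.homologyMap (HomCx.ev C J) j) :=
      (quasiIsoAt_iff_isIso_homologyMap _ _).1 h1
    exact ⟨(Linear.homCongr A (Iso.refl M) ((shiftFunctor (Dual.D A) j).mapIso eJ.symm)) ≪≫ₗ
      (HomCxHD.homologyEquiv (DRing.homCx C J) J j (HomCxHD.computes_of_isKInjective _ J)).symm ≪≫ₗ
      (asIso (HomologicalComplex.homologyMap (HomCx.ev C J) j)).toLinearEquiv.symm ≪≫ₗ
      (HomCxHD.hdEquiv C j).symm ≪≫ₗ
      ((DerivedCategory.homologyFunctor (ModuleCat.{u} A) j).mapIso eC).toLinearEquiv⟩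
  have hR : Nonempty (Dual.inD A N ≅ (DRing.RgammaI (maximalIdeal A)).obj M) := by
    apply nonempty_iso_inD
    · intro i hi
      obtain ⟨e⟩ := K175.LDBounded.rgamma_equiv ω hω hn E f hf M c d hGE hLE hMfin i
      obtain ⟨k⟩ := key (-i)
      have := K230.DCLink.subsingleton_HD_inD (A := A) (N →ₗ[A] E) (-i) (by omega)
      have h3 : Subsingleton (M ⟶ ω⟦-i⟧) := k.toEquiv.subsingleton
      have h4 : Subsingleton ((M ⟶ ω⟦-i⟧) →ₗ[A] E) :=
        ⟨fun a b => LinearMap.ext fun x => by rw [Subsingleton.elim x 0, map_zero, map_zero]⟩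
      exact e.toEquiv.subsingleton
    · obtain ⟨e⟩ := K175.LDBounded.rgamma_equiv ω hω hn E f hf M c d hGE hLE hMfin 0
      obtain ⟨k⟩ := key (-0)
      have k' : (M ⟶ ω⟦(-0 : ℤ)⟧) ≃ₗ[A] (N →ₗ[A] E) :=
        k ≪≫ₗ (LinearEquiv.refl A _ : Dual.HD A (Dual.inD A (N →ₗ[A] E)) (-0) ≃ₗ[A] Dual.HD A (Dual.inD A (N →ₗ[A] E)) 0) ≪≫ₗ
          K230.DCLink.inDIso (A := A) (N →ₗ[A] E)
      exact ⟨e ≪≫ₗ (LinearEquiv.congrLeft E A k') ≪≫ₗ
        (LinearEquiv.ofBijective _ (Groth.Agent.Localalg.Matlis.applyₗ_bijective_of_isArtinian hf N)).symm⟩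
  obtain ⟨e⟩ := hR
  exact ⟨M, e.hom ≫ (DRing.RgammaIε (maximalIdeal A)).app M, hM,
    LDual.isApprox_comp_iso (isApprox_ε (maximalIdeal A) M) e⟩

include hω hn in
/-- Bounded complexes with Artinian cohomology have models. -/
theorem hasModel_of_artinian (K : Dual.D A)
    (hb : ∃ a b : ℤ, ∀ i : ℤ, (i < a ∨ b < i) → Subsingleton (Dual.HD A K i))
    (hK : ∀ i : ℤ, IsArtinian A (Dual.HD A K i)) : HasModel (maximalIdeal A) K := by
  obtain ⟨a, b, hab⟩ := hb
  have h1 : K.IsGE a := K175.LDBounded.isGE_of_subsingleton K a fun i hi => hab i (Or.inl hi)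
  have h2 : K.IsLE b := K175.LDBounded.isLE_of_subsingleton K b fun i hi => hab i (Or.inr hi)
  refine Devissage.devissage (HasModel (maximalIdeal A)) (fun Z hZ => hasModel_zero hZ)
    (fun T hT h1 h3 => hasModel_mid T hT h1 h3) K a b fun i => ?_
  have := hK i
  have h3 := hasModel_shift (hasModel_inD hω hn (Dual.HD A K i)) (-i)
  refine (HasModel (maximalIdeal A)).prop_of_iso ?_ h3
  exact ((DerivedCategory.singleFunctors (ModuleCat.{u} A)).shiftIso (-i) i 0 (by simp)).app
    ((DerivedCategory.homologyFunctor (ModuleCat.{u} A) i).obj K)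


include hω in
omit [IsLocalRing A] [IsAdicComplete (maximalIdeal A) A] [DRing.HasRgammaI (maximalIdeal A)] in
/-- `Hom(M, ω⟦i⟧)` is finite and vanishes outside a bounded interval. -/
theorem hom_omega (M : Dual.D A) (c d : ℤ) (hGE : M.IsGE c) (hLE : M.IsLE d)
    (hM : ∀ i, Module.Finite A (Dual.HD A M i)) :
    ∃ a b : ℤ, (∀ i : ℤ, Module.Finite A (M ⟶ ω⟦i⟧)) ∧
      ∀ i : ℤ, (i < a ∨ b < i) → Subsingleton (M ⟶ ω⟦i⟧) := by
  obtain ⟨a, b, hGa, -, hab⟩ := HomBC.exists_bounds_of_isDualizing hω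
  refine ⟨a - d, b - c, fun i => FaltF.finite_hom hω M c d hGE hLE hM i, fun i hi => ?_⟩
  by_cases h : b - c < i
  · exact FaltF.subsingleton_hom a b hab M c d hGE hLE i h
  · have hωi : (ω⟦i⟧).IsGE (a - i) := DerivedCategory.TStructure.t.isGE_shift ω a i (a - i) (by omega)
    refine subsingleton_of_forall_eq 0 fun g => ?_
    exact DerivedCategory.TStructure.t.zero_of_isLE_of_isGE g d (a - i) (by omega) hLE hωi

end Local

end K175.GMArt
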