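import Groth.Agent.LoccohB.LDual
import Groth.Agent.LoccohB.RGammaTri
import Groth.Agent.DRing.K230.DCMore
import Groth.Agent.DRing.K230.DCLink
import Groth.Agent.Ega1.LimitSystem

/-!
# Torsion approximations, derived complete objects and triangles
-/

set_option autoImplicit false
set_option backward.isDefEq.respectTransparency false
universe u
open CategoryTheory Limits Pretriangulated
attribute [local instance] HasDerivedCategory.standard

namespace K175.GMEquiv

open Groth.Agent.LoccohB Groth.Agent.LoccohB.FInv Groth.Agent.LoccohB.RHomApprox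

variable {A : Type u} [CommRing A]

/-- A torsion approximation with maps into derived complete objects under control. -/
theorem exists_approx (I : Ideal A) (hI : I.FG) (K : Dual.D A) :
    ∃ (G : Dual.D A) (α : G ⟶ K), IsApprox I α ∧
      ∀ X : Dual.D A, DRing.IsDerivedComplete I X → Function.Bijective (fun g : K ⟶ X => α ≫ g) := by
  obtain ⟨G, h1, h2⟩ := exists_tors I hI K
  have key := h2 (fun L => ∃ α : L ⟶ K, (∀ T : Dual.D A, IsTors I T →
      Function.Bijective (fun φ : T ⟶ L => φ ≫ α)) ∧
      ∀ X : Dual.D A, DRing.IsDerivedComplete I X → Function.Bijective (fun g : K ⟶ X => α ≫ g)) ?_ ?_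
  · obtain ⟨α, hα, hα'⟩ := key
    exact ⟨G, α, ⟨h1, hα⟩, hα'⟩
  · refine ⟨𝟙 K, fun T _ => bij_comp_hom T (Iso.refl K), fun X _ => ?_⟩
    have : (fun g : K ⟶ X => 𝟙 K ≫ g) = id := by
      funext g
      simp
    rw [this]
    exact Function.bijective_id
  · rintro f hf G L C α β γ hT hC ⟨ε, hε, hε'⟩
    refine ⟨α ≫ ε, fun T hTt => ?_, fun X hX => ?_⟩
    · have h3 : ∀ j : ℤ, Subsingleton (T ⟶ C⟦j⟧) := fun j => by
        refine subsingleton_of_elTor f T _ (fun i => hTt.elTor hf i) ?_
        have : f • 𝟙 (C⟦j⟧) = (f • 𝟙 C)⟦j⟧' := by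
          rw [Functor.map_smul, CategoryTheory.Functor.map_id]
        rw [this]
        infer_instance
      have h4 := HDIBasic.bijective_comp_shift hT T h3 0
      have h5 : Function.Bijective (fun φ : T ⟶ G => φ ≫ α) := by
        let eG := (shiftFunctorZero (Dual.D A) ℤ).app G
        let eL := (shiftFunctorZero (Dual.D A) ℤ).app L
        have h6 : (fun φ : T ⟶ G => φ ≫ α) = (fun φ : T ⟶ L⟦(0 : ℤ)⟧ => φ ≫ eL.hom) ∘
            (fun φ : T ⟶ G⟦(0 : ℤ)⟧ => φ ≫ α⟦(0 : ℤ)⟧') ∘ (fun φ : T ⟶ G => φ ≫ eG.inv) := by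
          funext φ
          simp only [Function.comp, Category.assoc]
          congr 1
          have := (shiftFunctorZero (Dual.D A) ℤ).hom.naturality α
          simp only [Functor.id_map] at this
          rw [eq_comm, Iso.inv_comp_eq]
          exact this
        rw [h6]
        exact (bij_comp_hom T eL).comp (h4.comp (bij_comp_inv T eG))
      have h7 : (fun φ : T ⟶ G => φ ≫ α ≫ ε) = (fun φ : T ⟶ L => φ ≫ ε) ∘ (fun φ : T ⟶ G => φ ≫ α) := by
        funext φ
        simp
      rw [h7]
      exact (hε T hTt).comp h5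
    · have h7 : (fun g : K ⟶ X => (α ≫ ε) ≫ g) = (fun g : L ⟶ X => α ≫ g) ∘ (fun g : K ⟶ X => ε ≫ g) := by
        funext g
        simp
      rw [h7]
      refine Function.Bijective.comp ?_ (hε' X hX)
      -- the cone `C` is `f`-invertible
      have h1 := subsingleton_of_isDerivedComplete I f hf _ X hC hX
      have hC' : IsIso (f • 𝟙 (C⟦(-1 : ℤ)⟧)) := by
        have : f • 𝟙 (C⟦(-1 : ℤ)⟧) = (f • 𝟙 C)⟦(-1 : ℤ)⟧' := by
          rw [Functor.map_smul, CategoryTheory.Functor.map_id]
        rw [this]
        infer_instance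
      have h2 := subsingleton_of_isDerivedComplete I f hf _ X hC' hX
      constructor
      · intro g g' hg
        have h3 : α ≫ (g - g') = 0 := by
          rw [Preadditive.comp_sub, sub_eq_zero]
          exact hg
        obtain ⟨k, hk⟩ := Triangle.yoneda_exact₂ _ hT (g - g') h3
        have hk0 : k = 0 := Subsingleton.elim (α := (C ⟶ X)) _ _
        rw [← sub_eq_zero, hk, hk0]
        exact comp_zero
      · intro g
        have hT' := inv_rot_of_distTriang _ hT
        obtain ⟨k, hk⟩ := Triangle.yoneda_exact₂ _ hT' g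
          (Subsingleton.elim (α := (C⟦(-1 : ℤ)⟧ ⟶ X)) _ _)
        exact ⟨k, hk.symm⟩

/-- Precomposition with a torsion approximation is bijective on maps into derived complete objects. -/
theorem bijective_precomp {I : Ideal A} (hI : I.FG) {G K : Dual.D A} {α : G ⟶ K} (hα : IsApprox I α)
    (X : Dual.D A) (hX : DRing.IsDerivedComplete I X) : Function.Bijective (fun g : K ⟶ X => α ≫ g) := by
  obtain ⟨G', β, hβ, hβ'⟩ := exists_approx I hI K
  obtain ⟨a, ha⟩ := (hβ.bij G hα.isTors).2 α
  obtain ⟨b, hb⟩ := (hα.bij G' hβ.isTors).2 β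
  dsimp only at ha hb
  let e : G ≅ G' := ⟨a, b, (hα.bij G hα.isTors).1 (by simp [hb, ha]),
    (hβ.bij G' hβ.isTors).1 (by simp [hb, ha])⟩
  have h1 : (fun g : K ⟶ X => α ≫ g) = (fun g : G' ⟶ X => e.hom ≫ g) ∘ (fun g : K ⟶ X => β ≫ g) := by
    funext g
    change α ≫ g = a ≫ β ≫ g
    rw [← Category.assoc, ha]
  rw [h1]
  refine Function.Bijective.comp ?_ (hβ' X hX)
  exact ⟨fun x y (h : e.hom ≫ x = e.hom ≫ y) => by
    simpa using congrArg (fun z => e.inv ≫ z) h, fun g => ⟨e.inv ≫ g, by simp⟩⟩

/-- The derived completion of a torsion approximation is an isomorphism. -/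
theorem isIso_completion_of_isApprox {I : Ideal A} (hI : I.FG) [DRing.HasDerivedCompletion I]
    {G K : Dual.D A} {α : G ⟶ K} (hα : IsApprox I α) : IsIso ((DRing.derivedCompletion I).map α) :=
  isIso_completion_map I α fun X hX => bijective_precomp hI hα X hX

/-- The unit is an isomorphism at derived complete objects. -/
theorem isIso_unit {I : Ideal A} [DRing.HasDerivedCompletion I] (X : Dual.D A)
    (hX : DRing.IsDerivedComplete I X) : IsIso (DRing.toDerivedCompletion I X) :=
  (DRing.derivedCompletionAdj I).isIso_unit_app_of_iso (Y := X) (X := (⟨X, hX⟩ : DRing.DComp I)) (Iso.refl X)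

/-- Complexes with finite cohomology over a complete Noetherian ring are derived complete. -/
theorem isDerivedComplete_of_finite [IsNoetherianRing A] (I : Ideal A) [IsAdicComplete I A] (M : Dual.D A)
    (hM : ∀ i : ℤ, Module.Finite A (Dual.HD A M i)) : DRing.IsDerivedComplete I M := by
  rw [K230.DCLink.isDerivedComplete_iff]
  intro f hf n
  have := hM n
  have := Groth.Agent.Ega1.LimitSystem.isAdicComplete_of_finite (I := I) (M := Dual.HD A M n)
  exact K230.DCMore.dc_of_isAdicComplete hf

section RG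

variable [IsNoetherianRing A] {I : Ideal A} [DRing.HasRgammaI I]

/-- `α` is a torsion approximation iff its source is torsion and `RΓ_I α` is an isomorphism. -/
theorem isIso_rgamma_of_isApprox {G K : Dual.D A} {α : G ⟶ K} (hα : IsApprox I α) :
    IsIso ((DRing.RgammaI I).map α) := by
  have h1 : IsIso ((DRing.RgammaIε I).app G) := RGammaTors.isIso_ε_of_torsion I G hα.isTors
  have h2 := isApprox_ε I K
  have h3 : (DRing.RgammaI I).map α ≫ (DRing.RgammaIε I).app K = (DRing.RgammaIε I).app G ≫ α :=
    (DRing.RgammaIε I).naturality α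
  have hα' : IsApprox I ((DRing.RgammaIε I).app G ≫ α) :=
    LDual.isApprox_comp_iso hα (asIso ((DRing.RgammaIε I).app G))
  rw [← h3] at hα'
  have h4 := (isApprox_ε I G).isTors
  obtain ⟨b, hb⟩ := (hα'.bij _ h2.isTors).2 ((DRing.RgammaIε I).app K)
  dsimp only at hb
  refine ⟨b, ?_, ?_⟩
  · apply (hα'.bij _ h4).1
    dsimp only
    rw [Category.assoc, hb, Category.id_comp]
  · apply (h2.bij _ h2.isTors).1
    dsimp only
    rw [Category.assoc, hb, Category.id_comp]

theorem isApprox_of_isIso_rgamma {G K : Dual.D A} {α : G ⟶ K} (hG : IsTors I G)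
    (h : IsIso ((DRing.RgammaI I).map α)) : IsApprox I α := by
  have h1 : IsIso ((DRing.RgammaIε I).app G) := RGammaTors.isIso_ε_of_torsion I G hG
  have h3 : (DRing.RgammaI I).map α ≫ (DRing.RgammaIε I).app K = (DRing.RgammaIε I).app G ≫ α :=
    (DRing.RgammaIε I).naturality α
  have h4 : α = (inv ((DRing.RgammaIε I).app G) ≫ (DRing.RgammaI I).map α) ≫ (DRing.RgammaIε I).app K := by
    rw [Category.assoc, h3, IsIso.inv_hom_id_assoc]
  rw [h4]
  exact LDual.isApprox_comp_iso (isApprox_ε I K)
    (asIso (inv ((DRing.RgammaIε I).app G) ≫ (DRing.RgammaI I).map α))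

open scoped Groth.Agent.LoccohB.RGammaTri in
/-- The middle term of a morphism of triangles with torsion approximations on both sides. -/
theorem isApprox_mid (T T' : Triangle (Dual.D A)) (hT : T ∈ distTriang (Dual.D A))
    (hT' : T' ∈ distTriang (Dual.D A)) (φ : T ⟶ T') (h1 : IsApprox I φ.hom₁) (h3 : IsApprox I φ.hom₃) :
    IsApprox I φ.hom₂ := by
  have ht : IsTors I T.obj₂ := (RGammaTri.torsProp I).ext_of_isTriangulatedClosed₂ T hT h1.isTors h3.isTors
  apply isApprox_of_isIso_rgamma ht
  have h1' := isIso_rgamma_of_isApprox h1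
  have h3' := isIso_rgamma_of_isApprox h3
  exact isIso₂_of_isIso₁₃ ((DRing.RgammaI I).mapTriangle.map φ)
    ((DRing.RgammaI I).map_distinguished T hT) ((DRing.RgammaI I).map_distinguished T' hT') h1' h3'

end RG

end K175.GMEquiv
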