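import Groth.Agent.Dual.K175.LDQ
import Groth.Agent.LoccohB.SectLin303

/-!
# Local duality along `f : X ⟶ Spec R`

For `a` right adjoint to `Rf_*` on `D_QCoh`: `Hom(O_X/j_!O_U, K) = Hom_R(Hom(K, a(ω~)), E)` for `K` with
`Rf_*K ∈ D^b_coh`, `U` the preimage of the punctured spectrum.
-/

set_option autoImplicit false
universe u
open CategoryTheory CategoryTheory.Limits AlgebraicGeometry Opposite Pretriangulated
attribute [local instance] HasDerivedCategory.standard

namespace K175.GeoDual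

open Groth.Agent Groth.Agent.LoccohB Groth.Agent.LoccohB.TildeEta Groth.Agent.LoccohB.SectLin303
  K175.ZqMod K175.QPush K175.CanTors K175.QTors K175.LDQ K175.LDBounded
open IsLocalRing

section

variable {R : Type u} [CommRing R] {X : Scheme.{u}} (f : X ⟶ Spec (CommRingCat.of R))

/-- `R → Γ(X, O_X)` -/
noncomputable def rho : R →+* Γ(X, ⊤) := (f.appTop).hom.comp (Scheme.ΓSpecIso (CommRingCat.of R)).inv.hom

/-- `Hom(K, L)` in `D(O_X)` -/
@[nolint unusedArguments]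
def HomR (_f : X ⟶ Spec (CommRingCat.of R)) (K L : DCoh.D X) : Type (u + 1) := K ⟶ L

noncomputable instance (K L : DCoh.D X) : AddCommGroup (HomR f K L) := inferInstanceAs (AddCommGroup (K ⟶ L))

noncomputable instance (K L : DCoh.D X) : Module R (HomR f K L) := Module.compHom (K ⟶ L) (rho f)

lemma homR_smul {K L : DCoh.D X} (r : R) (φ : HomR f K L) :
    r • φ = (rho f r • (show K ⟶ L from φ) : K ⟶ L) := rfl

/-- the image of `r` in `Γ(Spec R, O)` -/
noncomputable abbrev gs (r : R) : Γ(Spec (CommRingCat.of R), ⊤) := (Scheme.ΓSpecIso (CommRingCat.of R)).inv r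

variable [DCoh.HasRpush f]

lemma rpush_smul {K L : DCoh.D X} (r : R) (φ : K ⟶ L) :
    (DCoh.Rpush f).map (rho f r • φ) = gs r • (DCoh.Rpush f).map φ :=
  (inter_rpush f (gs r)).map_smul φ

omit [DCoh.HasRpush f] in
lemma tA_smul {K L : Dual.D R} (r : R) (φ : K ⟶ L) : (tA R).map (r • φ) = gs r • (tA R).map φ :=
  (inter_tildeD (CommRingCat.of R) r).map_smul φ

omit [DCoh.HasRpush f] in
lemma homQ_smul (I : Ideal R) {K : Dual.D R} (r : R) (x : HomQ I K) :
    r • x = (gs r • (show Qs (PO I) 0 ⟶ (tA R).obj K from x) : Qs (PO I) 0 ⟶ (tA R).obj K) := by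
  rw [smul_def, tA_smul, CategoryTheory.Functor.map_id, Linear.comp_smul, Category.comp_id]

variable (h : DCoh.RpushPreservesQCoh f) (a : DCoh.DQCoh (Spec (CommRingCat.of R)) ⥤ DCoh.DQCoh X)
  (adj : DCoh.RpushQ f h ⊣ a) (W : DCoh.DQCoh (Spec (CommRingCat.of R)))

/-- The adjunction isomorphism. -/
noncomputable def trH {K : DCoh.D X} (φ : K ⟶ (a.obj W).obj) : (DCoh.Rpush f).obj K ⟶ W.obj :=
  (DCoh.Rpush f).map φ ≫ (adj.counit.app W).hom

lemma trH_bijective {K : DCoh.D X} (hK : DCoh.IsQCohD K) :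
    Function.Bijective (trH f h a adj W : (K ⟶ (a.obj W).obj) → _) := by
  let K' : DCoh.DQCoh X := ⟨K, hK⟩
  have h1 := (adj.homEquiv K' W).symm.bijective
  have h2 : ∀ φ : K' ⟶ a.obj W, ((adj.homEquiv K' W).symm φ).hom = trH f h a adj W φ.hom := by
    intro φ
    rw [Adjunction.homEquiv_counit]
    rfl
  constructor
  · intro φ ψ hφ
    have h3 : (⟨φ⟩ : K' ⟶ a.obj W) = ⟨ψ⟩ := by
      apply h1.1
      apply ObjectProperty.hom_ext
      rw [h2, h2]
      exact hφ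
    exact congrArg (fun t => t.hom) h3
  · intro g
    obtain ⟨φ, hφ⟩ := h1.2 ⟨g⟩
    refine ⟨φ.hom, ?_⟩
    rw [← h2, hφ]

lemma trH_comp {K L : DCoh.D X} (g : K ⟶ L) (φ : L ⟶ (a.obj W).obj) :
    trH f h a adj W (g ≫ φ) = (DCoh.Rpush f).map g ≫ trH f h a adj W φ := by
  rw [trH, trH, Functor.map_comp, Category.assoc]

lemma trH_add {K : DCoh.D X} (φ ψ : K ⟶ (a.obj W).obj) :
    trH f h a adj W (φ + ψ) = trH f h a adj W φ + trH f h a adj W ψ := by
  have := Groth.Agent.PerfA.HypTheta.additive_Rpush f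
  rw [trH, trH, trH, Functor.map_add, Preadditive.add_comp]

lemma trH_smul {K : DCoh.D X} (r : R) (φ : K ⟶ (a.obj W).obj) :
    trH f h a adj W (rho f r • φ) = gs r • trH f h a adj W φ := by
  rw [trH, trH, rpush_smul, Linear.smul_comp]

variable {ω : Dual.D R} (eW : W.obj ≅ (tA R).obj ω)

/-- `Hom(K, a(W)) → Hom(P, ω)` for `Rf_*K ≅ P~` -/
noncomputable def alpha {K : DCoh.D X} {P : Dual.D R} (e : (tA R).obj P ≅ (DCoh.Rpush f).obj K) :
    HomR f K (a.obj W).obj →ₗ[R] (P ⟶ ω) where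
  toFun φ := (tA R).preimage (e.hom ≫ trH f h a adj W φ ≫ eW.hom)
  map_add' φ ψ := by
    apply (tA R).map_injective
    rw [Functor.map_add, Functor.map_preimage, Functor.map_preimage, Functor.map_preimage, ← Preadditive.comp_add,
      ← Preadditive.add_comp, ← trH_add]
    rfl
  map_smul' r φ := by
    apply (tA R).map_injective
    rw [RingHom.id_apply, tA_smul, Functor.map_preimage, Functor.map_preimage, ← Linear.comp_smul,
      ← Linear.smul_comp, ← trH_smul]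
    rfl

lemma alpha_bijective {K : DCoh.D X} (hK : DCoh.IsQCohD K) {P : Dual.D R}
    (e : (tA R).obj P ≅ (DCoh.Rpush f).obj K) : Function.Bijective (alpha f h a adj W eW e) := by
  have h1 := trH_bijective f h a adj W hK
  have h2 : Function.Bijective (fun g : (DCoh.Rpush f).obj K ⟶ W.obj => e.hom ≫ g ≫ eW.hom) :=
    ⟨fun x y hxy => by
      dsimp only at hxy
      rwa [cancel_epi, cancel_mono] at hxy, fun y => ⟨e.inv ≫ y ≫ eW.inv, by simp⟩⟩
  have h3 : Function.Bijective (fun g : (tA R).obj P ⟶ (tA R).obj ω => (tA R).preimage g) :=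
    ⟨fun x y hxy => by
      rw [← (tA R).map_preimage x, ← (tA R).map_preimage y]
      exact congrArg _ hxy, fun y => ⟨(tA R).map y, (tA R).preimage_map y⟩⟩
  exact h3.comp (h2.comp h1)

variable (I : Ideal R)

/-- The duality pairing. -/
noncomputable def Phi {K : DCoh.D X} (x : Qs (f ⁻¹ᵁ PO I) 0 ⟶ K) :
    HomR f K (a.obj W).obj →ₗ[R] HomQ I ω where
  toFun φ := (psi f (PO I) x ≫ trH f h a adj W φ ≫ eW.hom : Qs (PO I) 0 ⟶ (tA R).obj ω)
  map_add' φ ψ := by
    change psi f (PO I) x ≫ trH f h a adj W ((show K ⟶ (a.obj W).obj from φ) +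
        (show K ⟶ (a.obj W).obj from ψ)) ≫ eW.hom =
      psi f (PO I) x ≫ trH f h a adj W φ ≫ eW.hom + psi f (PO I) x ≫ trH f h a adj W ψ ≫ eW.hom
    rw [trH_add, Preadditive.add_comp, Preadditive.comp_add]
  map_smul' r φ := by
    rw [RingHom.id_apply, homQ_smul]
    change psi f (PO I) x ≫ trH f h a adj W (rho f r • (show K ⟶ (a.obj W).obj from φ)) ≫ eW.hom =
      gs r • (psi f (PO I) x ≫ trH f h a adj W φ ≫ eW.hom)
    rw [trH_smul, Linear.smul_comp, Linear.comp_smul]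

lemma Phi_apply {K : DCoh.D X} (x : Qs (f ⁻¹ᵁ PO I) 0 ⟶ K) (φ : HomR f K (a.obj W).obj) :
    Phi f h a adj W eW I x φ = (psi f (PO I) x ≫ trH f h a adj W φ ≫ eW.hom : Qs (PO I) 0 ⟶ (tA R).obj ω) := rfl

/-- Naturality of the duality pairing. -/
lemma Phi_comp {K L : DCoh.D X} (x : Qs (f ⁻¹ᵁ PO I) 0 ⟶ K) (g : K ⟶ L) (φ : HomR f L (a.obj W).obj) :
    Phi f h a adj W eW I (x ≫ g) φ =
      Phi f h a adj W eW I x (g ≫ (show L ⟶ (a.obj W).obj from φ) : K ⟶ (a.obj W).obj) := by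
  rw [Phi_apply, Phi_apply, psi_comp, trH_comp, Category.assoc, Category.assoc]

lemma Phi_add {K : DCoh.D X} (x y : Qs (f ⁻¹ᵁ PO I) 0 ⟶ K) :
    Phi f h a adj W eW I (x + y) = Phi f h a adj W eW I x + Phi f h a adj W eW I y := by
  ext φ
  change psi f (PO I) (x + y) ≫ trH f h a adj W φ ≫ eW.hom =
    psi f (PO I) x ≫ trH f h a adj W φ ≫ eW.hom + psi f (PO I) y ≫ trH f h a adj W φ ≫ eW.hom
  rw [psi_add, Preadditive.add_comp]

end

section

variable {R : Type u} [CommRing R] [IsLocalRing R] [IsNoetherianRing R]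
  {X : Scheme.{u}} (f : X ⟶ Spec (CommRingCat.of R)) [QuasiCompact f] [QuasiSeparated f]
  [DCoh.HasRpush f]
  (h : DCoh.RpushPreservesQCoh f) (a : DCoh.DQCoh (Spec (CommRingCat.of R)) ⥤ DCoh.DQCoh X)
  (adj : DCoh.RpushQ f h ⊣ a) (W : DCoh.DQCoh (Spec (CommRingCat.of R)))
  {ω : Dual.D R} (eW : W.obj ≅ (tA R).obj ω)
  (hω : Dual.IsDualizing R ω) (hn : Dual.IsNormalized R ω)
  [QuasiCompact (f ⁻¹ᵁ PO (maximalIdeal R)).ι]

include hω hn in
/-- The duality pairing is perfect. -/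
theorem Phi_bijective {K : DCoh.D X} (hK : DCoh.IsQCohD K) {P : Dual.D R}
    (e : (tA R).obj P ≅ (DCoh.Rpush f).obj K) (c d : ℤ) (hc : P.IsGE c) (hd : P.IsLE d)
    (hP : ∀ i : ℤ, Module.Finite R (Dual.HD R P i)) :
    Function.Bijective (Phi f h a adj W eW (maximalIdeal R) :
      (Qs (f ⁻¹ᵁ PO (maximalIdeal R)) 0 ⟶ K) → _) := by
  have h1 := psi_bijective f (PO (maximalIdeal R)) hK 0
  have h2 : Function.Bijective (fun g : Qs (PO (maximalIdeal R)) 0 ⟶ (DCoh.Rpush f).obj K =>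
      (show HomQ (maximalIdeal R) P from (g ≫ e.inv : Qs (PO (maximalIdeal R)) 0 ⟶ (tA R).obj P))) :=
    ⟨fun x y hxy => by
      have hxy' : x ≫ e.inv = y ≫ e.inv := hxy
      rwa [cancel_mono] at hxy', fun y => ⟨(show Qs (PO (maximalIdeal R)) 0 ⟶ (tA R).obj P from y) ≫ e.hom, by
        change ((show Qs (PO (maximalIdeal R)) 0 ⟶ (tA R).obj P from y) ≫ e.hom) ≫ e.inv = y
        rw [Category.assoc, e.hom_inv_id, Category.comp_id]⟩⟩
  have h3 := pair_bijective ω hω hn P c d hc hd hP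
  have h4 : Function.Bijective (fun ψ : (P ⟶ ω) →ₗ[R] HomQ (maximalIdeal R) ω =>
      ψ.comp (alpha f h a adj W eW e)) :=
    (LinearEquiv.congrLeft (HomQ (maximalIdeal R) ω) R
      (LinearEquiv.ofBijective _ (alpha_bijective f h a adj W eW hK e)).symm).bijective
  have h5 : (Phi f h a adj W eW (maximalIdeal R) : (Qs (f ⁻¹ᵁ PO (maximalIdeal R)) 0 ⟶ K) → _) =
      (fun ψ : (P ⟶ ω) →ₗ[R] HomQ (maximalIdeal R) ω => ψ.comp (alpha f h a adj W eW e)) ∘
      (pair (maximalIdeal R) P ω : _ → _) ∘ (fun g : Qs (PO (maximalIdeal R)) 0 ⟶ (DCoh.Rpush f).obj K =>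
      (show HomQ (maximalIdeal R) P from (g ≫ e.inv : Qs (PO (maximalIdeal R)) 0 ⟶ (tA R).obj P))) ∘
      (psi f (PO (maximalIdeal R)) : (Qs (f ⁻¹ᵁ PO (maximalIdeal R)) 0 ⟶ K) → _) := by
    funext x
    ext φ
    change psi f (PO (maximalIdeal R)) x ≫ trH f h a adj W φ ≫ eW.hom =
      (psi f (PO (maximalIdeal R)) x ≫ e.inv) ≫ (tA R).map ((tA R).preimage (e.hom ≫ trH f h a adj W φ ≫ eW.hom))
    rw [Functor.map_preimage, Category.assoc, e.inv_hom_id_assoc]
  rw [h5]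
  exact h4.comp (h3.comp (h2.comp h1))

end

end K175.GeoDual
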