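import Mathlib.CategoryTheory.Monoidal.Braided.Basic
import Mathlib.CategoryTheory.Monoidal.Category

/-!
# Invertible objects of a symmetric monoidal category
-/

set_option autoImplicit false
universe v u
open CategoryTheory MonoidalCategory

namespace K175.InvC

variable {C : Type u} [Category.{v} C] [MonoidalCategory C] [SymmetricCategory C]
  {L M : C} (e : L ⊗ M ≅ 𝟙_ C)

/-- Tensoring with an invertible object is an equivalence. -/
def eqv : C ≌ C :=
  CategoryTheory.Equivalence.mk (tensorRight L) (tensorRight M)
    (NatIso.ofComponents (fun F => (ρ_ F).symm ≪≫ whiskerLeftIso F e.symm ≪≫ (α_ F L M).symm)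
      (fun f => by
        dsimp
        simp only [Category.assoc, ← associator_inv_naturality_left, rightUnitor_inv_naturality_assoc,
          whiskerLeftIso_hom, whisker_exchange_assoc]))
    (NatIso.ofComponents (fun F => α_ F M L ≪≫ whiskerLeftIso F (β_ M L ≪≫ e) ≪≫ ρ_ F)
      (fun f => by
        dsimp
        simp only [Category.assoc, whiskerLeftIso_hom]
        rw [associator_naturality_left_assoc, ← whisker_exchange_assoc, rightUnitor_naturality]))

/-- The coevaluation. -/
def cI : 𝟙_ C ⟶ M ⊗ L := e.inv ≫ (β_ L M).hom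

include e in
lemma cI_bijective (F : C) : Function.Bijective (fun g : M ⟶ F => cI e ≫ g ▷ L) := by
  have h1 : (tensorRight L).IsEquivalence := (eqv e).isEquivalence_functor
  have h2 : Function.Bijective (fun g : M ⟶ F => g ▷ L) :=
    ⟨(tensorRight L).map_injective, (tensorRight L).map_surjective⟩
  have h3 : Function.Bijective (fun g : M ⊗ L ⟶ F ⊗ L => cI e ≫ g) :=
    ⟨fun a b h => by
      dsimp only [cI] at h
      rwa [cancel_epi] at h, fun b => ⟨(β_ L M).inv ≫ e.hom ≫ b, by simp [cI]⟩⟩
  exact h3.comp h2

end K175.InvC
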