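import Groth.Agent.Dual.K175.LDMain

/-!
# Local duality for duals of finite locally free modules
-/

set_option autoImplicit false
universe u
open CategoryTheory CategoryTheory.Limits AlgebraicGeometry Opposite MonoidalCategory
attribute [local instance] HasDerivedCategory.standard

namespace K175.LDFLF

open Groth.Agent Groth.Agent.LoccohB Groth.Agent.LoccohB.TildeEta
  K175.ZqMod K175.QPush K175.QTors K175.LDQ K175.GeoDual K175.FLFExt K175.LDMain
open scoped Groth.Agent.Dcoh.MonCat

variable {R : Type u} [CommRing R] {X : Scheme.{u}} [X.Over (Spec (CommRingCat.of R))]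

section

variable {L : X.Modules} (L' : X.Modules) [ExactPairing L L'] {P : X.Modules} (c : 𝟙_ X.Modules ⟶ P ⊗ L)
  (hc : ∀ F : X.Modules, Function.Bijective (fun g : P ⟶ F => c ≫ g ▷ L))

/-- `Hom(P, N[n]) = H^n(X, N ⊗ L)`, `R`-linearly. -/
noncomputable def homLR (N : X.Modules) (n : ℕ) :
    HomR (X ↘ Spec (CommRingCat.of R)) (DCoh.inD X P) ((DCoh.inD X N)⟦(n : ℤ)⟧) ≃ₗ[R]
      Coh.HH X ((DCoh.tensorBi.obj N).obj L) n where
  toFun := homL L' c hc N n
  invFun := (homL L' c hc N n).symm
  left_inv := (homL L' c hc N n).left_inv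
  right_inv := (homL L' c hc N n).right_inv
  map_add' := (homL L' c hc N n).map_add
  map_smul' r x := homL_smul L' c hc (rho (X ↘ Spec (CommRingCat.of R)) r) x

end

section

variable (L : X.Modules) (L' : X.Modules) [ExactPairing L L'] [DCoh.HasSheafHom L]

omit [X.Over (Spec (CommRingCat.of R))]

/-- The adjunction `L ⊗ - ⊣ Hom(L, -)` -/
noncomputable def adjL : tensorLeft L ⊣ DCoh.sheafHom L := DCoh.sheafHomAdj L

/-- The dual `L^∨`. -/
noncomputable abbrev dv : X.Modules := (DCoh.sheafHom L).obj (Coh.structureModule X)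

/-- The coevaluation for `L^∨`. -/
noncomputable def cL : 𝟙_ X.Modules ⟶ dv L ⊗ L := FLFDual.cc L L' (DCoh.sheafHom L) (adjL L)

lemma cL_bijective (F : X.Modules) : Function.Bijective (fun g : dv L ⟶ F => cL L L' ≫ g ▷ L) :=
  FLFDual.cc_bijective L L' (DCoh.sheafHom L) (adjL L) F

include L' in
lemma isCoh_dv (hL : FlatMod.IsFinLocFree L) : Coh.IsCoh (dv L) := by
  have h1 := Dcoh.DualFLF.isFinLocFree_dual hL L'
  have h2 := PerfA.CohSerre.isCoh_of_isFinLocFree h1
  exact PerfA.CohSerre.isCoh_of_iso (asIso (FLFDual.iota L L' (DCoh.sheafHom L) (adjL L))) h2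

end

end K175.LDFLF
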