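import Groth.Agent.Dual.K175.LDFLF
import Groth.Agent.Dual.K175.InvC

/-!
# Local duality for invertible modules
-/

set_option autoImplicit false
universe u
open CategoryTheory CategoryTheory.Limits AlgebraicGeometry Opposite MonoidalCategory
attribute [local instance] HasDerivedCategory.standard

namespace K175.LDInv

open Groth.Agent Groth.Agent.LoccohB Groth.Agent.LoccohB.TildeEta
  K175.ZqMod K175.QPush K175.QTors K175.LDQ K175.GeoDual K175.FLFExt K175.LDMain K175.LDFLF
open scoped Groth.Agent.Dcoh.MonCat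

variable {R : Type u} [CommRing R] {X : Scheme.{u}} [X.Over (Spec (CommRingCat.of R))]

/-- `Hom(M, N[n]) = H^n(X, N ⊗ L)` for `L ⊗ M ≅ O`. -/
noncomputable def homI {L M : X.Modules} (L' : X.Modules) [ExactPairing L L']
    (e : (DCoh.tensorBi.obj L).obj M ≅ Coh.structureModule X) (N : X.Modules) (n : ℕ) :
    HomR (X ↘ Spec (CommRingCat.of R)) (DCoh.inD X M) ((DCoh.inD X N)⟦(n : ℤ)⟧) ≃ₗ[R]
      Coh.HH X ((DCoh.tensorBi.obj N).obj L) n :=
  homLR L' (InvC.cI (L := L) (M := M) e) (fun F => InvC.cI_bijective (L := L) (M := M) e F) N n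

end K175.LDInv
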