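import Groth.Agent.PerfC.RpushBdd
import Groth.Agent.PerfB.StructFlat
import Groth.Agent.LoccohB.AdAffine
import Groth.Agent.LoccohB.GoodSch
import Groth.Agent.LoccohB.TildeEta
import Groth.Agent.LoccohB.CMDual
import Groth.Agent.LoccohB.SuppInd
import Groth.Agent.Dual.H365.DualSchLocal
import Groth.Agent.S3677
import Groth.Agent.S10831
import Groth.Agent.S0020

/-!
# `Rf_*` of a bounded coherent complex over a Noetherian affine base, and normalization of `f^! ω`
-/

set_option autoImplicit false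
universe u
open CategoryTheory CategoryTheory.Limits AlgebraicGeometry Pretriangulated
attribute [local instance] HasDerivedCategory.standard

namespace K175.PushFin

open Groth.Agent Groth.Agent.LoccohB.TildeEta

section

variable {R : Type u} [CommRing R]

lemma isLE_of_tA (ω : Dual.D R) (b : ℤ) (h : ((tA R).obj ω).IsLE b) : ω.IsLE b := by
  rw [DerivedCategory.isLE_iff]
  intro i hi
  apply LoccohB.GoodSch.isZero_of_isZero_tilde (CommRingCat.of R)
  have h1 : IsZero (DCoh.HD ((tA R).obj ω) i) := DerivedCategory.isZero_of_isLE ((tA R).obj ω) b i hi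
  exact h1.of_iso (PerfA.TildeSupp.HDtilde (R := CommRingCat.of R) ω i).symm

variable [IsNoetherianRing R]

/-- `Rf_*K = P~` with `P ∈ D^b_coh(R)`. -/
theorem exists_model {X : Scheme.{u}} (f : X ⟶ Spec (CommRingCat.of R)) [IsProper f] [DCoh.HasRpush f]
    (K : DCoh.D X) (a b : ℤ) [K.IsGE a] [K.IsLE b] (hK : DCoh.IsCohD K) :
    ∃ (P : Dual.D R) (c d : ℤ), P.IsGE c ∧ P.IsLE d ∧ (∀ i : ℤ, Module.Finite R (Dual.HD R P i)) ∧
      Nonempty ((tA R).obj P ≅ (DCoh.Rpush f).obj K) := by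
  have hsupp : ∀ i : ℤ, ClSub.IsProperOver f (CohB1.support (DCoh.HD K i)) := fun i =>
    PerfB.StructFlat.isProperOver_of_isProper f _ (S0020.result X _ (hK i).2)
  obtain ⟨h1, h2, b', h3⟩ := PerfC.RpushBdd.main f K a b hK hsupp
  obtain ⟨P, ⟨e⟩⟩ := LoccohB.GoodSch.exists_tildeD (CommRingCat.of R) _ (PerfA.QCohD.isQCohD_of_isCohD h1)
  let e' : (tA R).obj P ≅ (DCoh.Rpush f).obj K := e
  refine ⟨P, a, b', ?_, ?_, ?_, ⟨e'⟩⟩
  · exact Dual.H365.DualSchLocal.isGE_of_tildeD (CommRingCat.of R) P a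
      ((DerivedCategory.TStructure.t : Triangulated.TStructure (DCoh.D (Spec (CommRingCat.of R)))).isGE_of_iso e'.symm a)
  · exact isLE_of_tA P b'
      ((DerivedCategory.TStructure.t : Triangulated.TStructure (DCoh.D (Spec (CommRingCat.of R)))).isLE_of_iso e'.symm b')
  · exact (LoccohB.AdAffine.isCohD_tilde_iff (P := CommRingCat.of R) P).1 (PerfA.QCohD.isCohD_of_iso e'.symm h1)

end

section dim

lemma le_of_lt_succ (x : WithBot ℕ∞) (m : ℕ) (h : x < ((m + 1 : ℕ) : WithBot ℕ∞)) : x ≤ (m : WithBot ℕ∞) := by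
  induction x using WithBot.recBotCoe with
  | bot => exact bot_le
  | coe y =>
    have h1 : ((m + 1 : ℕ) : WithBot ℕ∞) = (((m : ℕ∞) + 1 : ℕ∞) : WithBot ℕ∞) := by
      rw [Nat.cast_add, Nat.cast_one]
      rfl
    have h2 : (m : WithBot ℕ∞) = (((m : ℕ) : ℕ∞) : WithBot ℕ∞) := rfl
    rw [h1, WithBot.coe_lt_coe, ENat.lt_add_one_iff (ENat.coe_ne_top m)] at h
    rw [h2, WithBot.coe_le_coe]
    exact h

lemma exists_component (T : Type u) [TopologicalSpace T] (n : ℕ) (h : topologicalKrullDim T = n) :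
    ∃ Z ∈ irreducibleComponents T, topologicalKrullDim ↥Z = (n : WithBot ℕ∞) := by
  have h1 := S10831.result T
  rw [h] at h1
  by_contra hne
  push Not at hne
  have h2 : ∀ Z ∈ irreducibleComponents T, topologicalKrullDim ↥Z < (n : WithBot ℕ∞) := by
    intro Z hZ
    refine lt_of_le_of_ne ?_ (hne Z hZ)
    rw [h1]
    exact le_iSup₂ (f := fun (Y : Set T) (_ : Y ∈ irreducibleComponents T) => topologicalKrullDim ↥Y) Z hZ
  rcases n with _ | m
  · have h3 : (⨆ Y ∈ irreducibleComponents T, topologicalKrullDim ↥Y) ≤ ⊥ := by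
      refine iSup₂_le (fun Z hZ => ?_)
      have h4 := h2 Z hZ
      induction hx : topologicalKrullDim ↥Z using WithBot.recBotCoe with
      | bot => exact le_rfl
      | coe y =>
        rw [hx] at h4
        exact absurd h4 (not_lt.2 (WithBot.coe_le_coe.2 bot_le))
    rw [← h1] at h3
    exact absurd h3 (by simp)
  · have h3 : (⨆ Y ∈ irreducibleComponents T, topologicalKrullDim ↥Y) ≤ (m : WithBot ℕ∞) :=
      iSup₂_le (fun Z hZ => le_of_lt_succ _ m (h2 Z hZ))
    rw [← h1] at h3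
    have h4 : ((m + 1 : ℕ) : WithBot ℕ∞) ≤ (m : WithBot ℕ∞) := h3
    rw [Nat.cast_le] at h4
    omega

end dim

section norm

variable {R : Type u} [CommRing R] [IsLocalRing R] [IsNoetherianRing R]

/-- An object concentrated in degree `d`. -/
lemma exists_iso_single {C : Type*} [Category* C] [Abelian C] [HasDerivedCategory C]
    (K : DerivedCategory C) (d : ℤ)
    (h : ∀ j : ℤ, j ≠ d → IsZero ((DerivedCategory.homologyFunctor C j).obj K)) :
    Nonempty (K ≅ (DerivedCategory.singleFunctor C d).obj ((DerivedCategory.homologyFunctor C d).obj K)) := by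
  have h1 : K.IsGE d := (DerivedCategory.isGE_iff _ _).2 (fun j hj => h j (by omega))
  have h2 : K.IsLE d := (DerivedCategory.isLE_iff _ _).2 (fun j hj => h j (by omega))
  obtain ⟨Y, ⟨e⟩⟩ := DerivedCategory.exists_iso_singleFunctor_obj_of_isGE_of_isLE K d
  have e2 : (DerivedCategory.homologyFunctor C d).obj K ≅ Y :=
    (DerivedCategory.homologyFunctor C d).mapIso e ≪≫
      (DerivedCategory.singleFunctorCompHomologyFunctorIso C d).app Y
  exact ⟨e ≪≫ (DerivedCategory.singleFunctor C d).mapIso e2.symm⟩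

/-- `f^!` of a normalized shift of `ω` is `N[n]` when `f^!ω` is concentrated in one degree. -/
theorem exists_norm {X : Scheme.{u}} (f : X ⟶ Spec (CommRingCat.of R)) [IsProper f] [DCoh.HasRpush f]
    (h : DCoh.RpushPreservesQCoh f) (a : DCoh.DQCoh (Spec (CommRingCat.of R)) ⥤ DCoh.DQCoh X)
    (adj : DCoh.RpushQ f h ⊣ a) (ω : Dual.D R) (hω : Dual.IsDualizing R ω)
    (W : DCoh.DQCoh (Spec (CommRingCat.of R))) (hW : Nonempty (W.obj ≅ (tA R).obj ω))
    (d : ℤ) (hconc : ∀ j : ℤ, j ≠ d → IsZero (DCoh.HD (a.obj W).obj j))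
    (n : ℕ) (hn : topologicalKrullDim X = n) :
    ∃ (ω' : Dual.D R) (W' : DCoh.DQCoh (Spec (CommRingCat.of R))), Dual.IsDualizing R ω' ∧
      Dual.IsNormalized R ω' ∧ Nonempty (W'.obj ≅ (tA R).obj ω') ∧
      Nonempty ((a.obj W').obj ≅ (DCoh.inD X (DCoh.HD (a.obj W).obj d))⟦(n : ℤ)⟧) := by
  obtain ⟨s, h1, h2⟩ := LoccohB.CMDual.exists_normalized R ω hω
  obtain ⟨eW⟩ := hW
  let _ := Dcoh.DerSch.rpushCommShift f
  have := Dcoh.DerSch.rpush_isTriangulated f
  let _ : a.CommShift ℤ := adj.rightAdjointCommShift ℤ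
  let e1 : (W⟦s⟧).obj ≅ (tA R).obj (ω⟦s⟧) :=
    ((ObjectProperty.ι (DCoh.IsQCohD (X := Spec (CommRingCat.of R)))).commShiftIso s).app W ≪≫
      (shiftFunctor (DCoh.D (Spec (CommRingCat.of R))) s).mapIso eW ≪≫
      (((DCoh.tildeD (CommRingCat.of R)).commShiftIso s).app ω).symm
  let e2 : (a.obj (W⟦s⟧)).obj ≅ ((a.obj W).obj)⟦s⟧ :=
    (ObjectProperty.ι (DCoh.IsQCohD (X := X))).mapIso ((a.commShiftIso s).app W) ≪≫
      ((ObjectProperty.ι (DCoh.IsQCohD (X := X))).commShiftIso s).app (a.obj W)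
  have h3 := S3677.result R (ω⟦s⟧) h1 h2 X f h a adj (W⟦s⟧) ⟨e1⟩ n hn
  obtain ⟨Z, hZ, hZn⟩ := exists_component X n hn
  obtain ⟨z, hz⟩ : Z.Nonempty := hZ.1.1
  have h4 : z ∈ {x : X | Nontrivial ((DCoh.HD (a.obj (W⟦s⟧)).obj (-(n : ℤ))).presheaf.stalk x)} := by
    rw [h3.2.2.1]
    exact Set.mem_iUnion₂.2 ⟨Z, ⟨hZ, hZn⟩, hz⟩
  have h5 : ¬ IsZero (DCoh.HD (a.obj (W⟦s⟧)).obj (-(n : ℤ))) := by
    intro h0
    have h6 : Subsingleton ((DCoh.HD (a.obj (W⟦s⟧)).obj (-(n : ℤ))).presheaf.stalk z) := by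
      have h7 := (PerfA.Restrict.isZero_iff_stalk _).1 h0 z
      exact AddCommGrpCat.subsingleton_of_isZero h7
    have h8 : Nontrivial ((DCoh.HD (a.obj (W⟦s⟧)).obj (-(n : ℤ))).presheaf.stalk z) := h4
    exact not_subsingleton _ h6
  have hd : (-(n : ℤ)) + s = d := by
    by_contra hne
    apply h5
    refine (hconc (s + (-(n : ℤ))) (by rw [add_comm]; exact hne)).of_iso ?_
    exact (DerivedCategory.homologyFunctor X.Modules (-(n : ℤ))).mapIso e2 ≪≫
      ((DerivedCategory.homologyFunctor X.Modules 0).shiftIso s (-(n : ℤ)) (s + (-(n : ℤ))) rfl).app _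
  obtain ⟨e3⟩ := exists_iso_single (a.obj W).obj d hconc
  refine ⟨ω⟦s⟧, W⟦s⟧, h1, h2, ⟨e1⟩, ⟨e2 ≪≫ (shiftFunctor (DCoh.D X) s).mapIso e3 ≪≫
    ((DerivedCategory.singleFunctors X.Modules).shiftIso s (-(n : ℤ)) d (by omega)).app _ ≪≫
    (((DerivedCategory.singleFunctors X.Modules).shiftIso (n : ℤ) (-(n : ℤ)) 0 (by omega)).app _).symm⟩⟩

end norm

end K175.PushFin
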