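import Groth.Agent.Dual.K175.GeoDual
import Groth.Agent.Dual.K175.PushFin
import Groth.Agent.Dual.K175.FLFExt

/-!
# Local duality for a proper morphism with `f^!ω` concentrated in one degree
-/

set_option autoImplicit false
universe u
open CategoryTheory CategoryTheory.Limits AlgebraicGeometry Opposite Pretriangulated
attribute [local instance] HasDerivedCategory.standard

namespace K175.LDMain

open Groth.Agent Groth.Agent.LoccohB Groth.Agent.LoccohB.TildeEta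
  K175.ZqMod K175.QPush K175.QTors K175.LDQ K175.GeoDual K175.FLFExt
open IsLocalRing

section

variable {R : Type u} [CommRing R] {X : Scheme.{u}} (f : X ⟶ Spec (CommRingCat.of R))
  (N : X.Modules) (n i j : ℕ) (hij : i + j = n) {A : DCoh.D X} (e : A ≅ (DCoh.inD X N)⟦(n : ℤ)⟧)

/-- `Hom(F, N[j]) = Hom(F[i], N[n])` -/
noncomputable def theta (F : X.Modules) : HomR f (DCoh.inD X F) ((DCoh.inD X N)⟦(j : ℤ)⟧) →ₗ[R]
    HomR f ((DCoh.inD X F)⟦(i : ℤ)⟧) A where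
  toFun x := ((show DCoh.inD X F ⟶ (DCoh.inD X N)⟦(j : ℤ)⟧ from x)⟦(i : ℤ)⟧' ≫
    (shiftFunctorAdd' (DCoh.D X) (j : ℤ) (i : ℤ) (n : ℤ) (by omega)).inv.app (DCoh.inD X N) ≫ e.inv :
      (DCoh.inD X F)⟦(i : ℤ)⟧ ⟶ A)
  map_add' x y := by
    change ((show DCoh.inD X F ⟶ (DCoh.inD X N)⟦(j : ℤ)⟧ from x) +
      (show DCoh.inD X F ⟶ (DCoh.inD X N)⟦(j : ℤ)⟧ from y))⟦(i : ℤ)⟧' ≫ _ = _
    rw [Functor.map_add, Preadditive.add_comp]
    rfl
  map_smul' r x := by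
    change (rho f r • (show DCoh.inD X F ⟶ (DCoh.inD X N)⟦(j : ℤ)⟧ from x))⟦(i : ℤ)⟧' ≫ _ =
      (rho f r • ((show DCoh.inD X F ⟶ (DCoh.inD X N)⟦(j : ℤ)⟧ from x)⟦(i : ℤ)⟧' ≫ _) : (DCoh.inD X F)⟦(i : ℤ)⟧ ⟶ A)
    rw [Functor.map_smul, Linear.smul_comp]

lemma theta_apply (F : X.Modules) (x : DCoh.inD X F ⟶ (DCoh.inD X N)⟦(j : ℤ)⟧) :
    theta f N n i j hij e F x = (x⟦(i : ℤ)⟧' ≫
    (shiftFunctorAdd' (DCoh.D X) (j : ℤ) (i : ℤ) (n : ℤ) (by omega)).inv.app (DCoh.inD X N) ≫ e.inv :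
      (DCoh.inD X F)⟦(i : ℤ)⟧ ⟶ A) := rfl

lemma theta_bijective (F : X.Modules) : Function.Bijective (theta f N n i j hij e F) := by
  have h1 : Function.Bijective (fun x : DCoh.inD X F ⟶ (DCoh.inD X N)⟦(j : ℤ)⟧ => x⟦(i : ℤ)⟧') :=
    ⟨(shiftFunctor (DCoh.D X) (i : ℤ)).map_injective, (shiftFunctor (DCoh.D X) (i : ℤ)).map_surjective⟩
  have h2 : Function.Bijective (fun x : (DCoh.inD X F)⟦(i : ℤ)⟧ ⟶ ((DCoh.inD X N)⟦(j : ℤ)⟧)⟦(i : ℤ)⟧ => x ≫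
      (shiftFunctorAdd' (DCoh.D X) (j : ℤ) (i : ℤ) (n : ℤ) (by omega)).inv.app (DCoh.inD X N) ≫ e.inv) :=
    ⟨fun a b h => by
      dsimp only at h
      rwa [cancel_mono] at h, fun b => ⟨b ≫ e.hom ≫
      (shiftFunctorAdd' (DCoh.D X) (j : ℤ) (i : ℤ) (n : ℤ) (by omega)).hom.app (DCoh.inD X N), by simp⟩⟩
  exact h2.comp h1

lemma theta_nat {F F' : X.Modules} (g : F ⟶ F') (x : DCoh.inD X F' ⟶ (DCoh.inD X N)⟦(j : ℤ)⟧) :
    theta f N n i j hij e F ((DerivedCategory.singleFunctor X.Modules 0).map g ≫ x :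
      DCoh.inD X F ⟶ (DCoh.inD X N)⟦(j : ℤ)⟧) =
      (((DerivedCategory.singleFunctor X.Modules 0).map g)⟦(i : ℤ)⟧' ≫
        (show (DCoh.inD X F')⟦(i : ℤ)⟧ ⟶ A from theta f N n i j hij e F' x) : (DCoh.inD X F)⟦(i : ℤ)⟧ ⟶ A) := by
  rw [theta_apply, theta_apply, Functor.map_comp, Category.assoc]

end

section

variable {R : Type u} [CommRing R] [IsLocalRing R] [IsNoetherianRing R]
  {X : Scheme.{u}} (f : X ⟶ Spec (CommRingCat.of R)) [IsProper f] [DCoh.HasRpush f]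
  (h : DCoh.RpushPreservesQCoh f) (a : DCoh.DQCoh (Spec (CommRingCat.of R)) ⥤ DCoh.DQCoh X)
  (adj : DCoh.RpushQ f h ⊣ a) (W : DCoh.DQCoh (Spec (CommRingCat.of R)))
  {ω : Dual.D R} (eW : W.obj ≅ (tA R).obj ω)
  (hω : Dual.IsDualizing R ω) (hn : Dual.IsNormalized R ω)
  (N : X.Modules) (n : ℕ) (e : (a.obj W).obj ≅ (DCoh.inD X N)⟦(n : ℤ)⟧) (i j : ℕ) (hij : i + j = n)

/-- The duality map `H^i_Z(X, F) → Hom_R(Hom(F, N[j]), E)`. -/
noncomputable def dua (F : X.Modules) :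
    _root_.LocCohZ.HZM X F i (f ⁻¹ᵁ PO (maximalIdeal R)) →+
      (HomR f (DCoh.inD X F) ((DCoh.inD X N)⟦(j : ℤ)⟧) →ₗ[R] HomQ (maximalIdeal R) ω) where
  toFun z := (Phi f h a adj W eW (maximalIdeal R) (K := (DCoh.inD X F)⟦(i : ℤ)⟧)
    ((hzEquiv (f ⁻¹ᵁ PO (maximalIdeal R)) F i).symm z)).comp (theta f N n i j hij e F)
  map_zero' := by
    rw [map_zero]
    have h1 := Phi_add f h a adj W eW (maximalIdeal R) (K := (DCoh.inD X F)⟦(i : ℤ)⟧) 0 0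
    rw [add_zero] at h1
    rw [left_eq_add.mp h1, LinearMap.zero_comp]
  map_add' z z' := by
    rw [map_add, Phi_add, LinearMap.add_comp]

lemma dua_apply (F : X.Modules) (z : _root_.LocCohZ.HZM X F i (f ⁻¹ᵁ PO (maximalIdeal R)))
    (x : DCoh.inD X F ⟶ (DCoh.inD X N)⟦(j : ℤ)⟧) :
    dua f h a adj W eW N n e i j hij F z x =
      Phi f h a adj W eW (maximalIdeal R) (K := (DCoh.inD X F)⟦(i : ℤ)⟧)
        ((hzEquiv (f ⁻¹ᵁ PO (maximalIdeal R)) F i).symm z) (theta f N n i j hij e F x) := rfl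

/-- Naturality of the duality map. -/
theorem dua_nat {F F' : X.Modules} (g : F ⟶ F')
    (z : _root_.LocCohZ.HZM X F i (f ⁻¹ᵁ PO (maximalIdeal R)))
    (x : DCoh.inD X F' ⟶ (DCoh.inD X N)⟦(j : ℤ)⟧) :
    dua f h a adj W eW N n e i j hij F'
      (_root_.LocCohZ.map (X := X.carrier) ((SheafOfModules.toSheaf X.ringCatSheaf).map g) i le_top z) x =
    dua f h a adj W eW N n e i j hij F z
      ((DerivedCategory.singleFunctor X.Modules 0).map g ≫ x : DCoh.inD X F ⟶ (DCoh.inD X N)⟦(j : ℤ)⟧) := by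
  obtain ⟨y, rfl⟩ := (hzEquiv (f ⁻¹ᵁ PO (maximalIdeal R)) F i).surjective z
  rw [← hzEquiv_naturality, dua_apply, dua_apply, AddEquiv.symm_apply_apply, AddEquiv.symm_apply_apply,
    theta_nat, Phi_comp]

include hω hn in
/-- The duality map is bijective for coherent `F`. -/
theorem dua_bijective (F : X.Modules) (hF : Coh.IsCoh F) :
    Function.Bijective (dua f h a adj W eW N n e i j hij F) := by
  have hX : IsNoetherian X := LoccohB.AffSupp.isNoetherian_of_isProper f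
  have hU : QuasiCompact (f ⁻¹ᵁ PO (maximalIdeal R)).ι := inferInstance
  have hcoh : DCoh.IsCohD ((DCoh.inD X F)⟦(i : ℤ)⟧) :=
    PerfA.QCohD.isCohD_shift (PerfA.QCohD.isCohD_inD F hF) (i : ℤ)
  have h1 : (DCoh.inD X F).IsGE 0 := inferInstance
  have h2 : (DCoh.inD X F).IsLE 0 := inferInstance
  have h3 : ((DCoh.inD X F)⟦(i : ℤ)⟧).IsGE (-(i : ℤ)) :=
    DerivedCategory.TStructure.t.isGE_shift _ 0 (i : ℤ) (-(i : ℤ)) (by omega)
  have h4 : ((DCoh.inD X F)⟦(i : ℤ)⟧).IsLE (-(i : ℤ)) :=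
    DerivedCategory.TStructure.t.isLE_shift _ 0 (i : ℤ) (-(i : ℤ)) (by omega)
  obtain ⟨P, c, d, hc, hd, hP, ⟨eP⟩⟩ := PushFin.exists_model f ((DCoh.inD X F)⟦(i : ℤ)⟧) (-(i : ℤ)) (-(i : ℤ)) hcoh
  have h5 := Phi_bijective f h a adj W eW hω hn (PerfA.QCohD.isQCohD_of_isCohD hcoh) eP c d hc hd hP
  have h6 : Function.Bijective (fun ψ : HomR f ((DCoh.inD X F)⟦(i : ℤ)⟧) (a.obj W).obj →ₗ[R]
      HomQ (maximalIdeal R) ω => ψ.comp (theta f N n i j hij e F)) :=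
    (LinearEquiv.congrLeft (HomQ (maximalIdeal R) ω) R
      (LinearEquiv.ofBijective _ (theta_bijective f N n i j hij e F)).symm).bijective
  exact h6.comp (h5.comp (hzEquiv (f ⁻¹ᵁ PO (maximalIdeal R)) F i).symm.bijective)

end

end K175.LDMain
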