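import Groth.Agent.Dual.K175.QTors
import Groth.Agent.Dual.K175.LDBounded

/-!
# Local duality over `A` in terms of maps out of `O/j_!O_V`
-/

set_option autoImplicit false
universe u
open CategoryTheory CategoryTheory.Limits AlgebraicGeometry Opposite Pretriangulated
attribute [local instance] HasDerivedCategory.standard

namespace K175.LDQ

open Groth.Agent Groth.Agent.LoccohB Groth.Agent.LoccohB.TildeEta
  Groth.Agent.LoccohB.LocDualElt Groth.Agent.LoccohB.LocDualBasic Groth.Agent.LoccohB.LocDualLoc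
  Groth.Agent.LoccohB.LocDualHull Groth.Agent.LoccohB.LocDualCx
  K175.ZqMod K175.QPush K175.CanTors K175.QTors K175.LDBounded
open IsLocalRing

section

variable {A : Type u} [CommRing A] (I : Ideal A)

lemma HomQ_map_apply {K L : Dual.D A} (g : K ⟶ L) (x : HomQ I K) :
    HomQ.map I g x = (show Qs (PO I) 0 ⟶ (tA A).obj K from x) ≫ (tA A).map g := rfl

/-- The pairing `Hom(Q, K~) × Hom(K, W) → Hom(Q, W~)`. -/
noncomputable def pair (K W : Dual.D A) : HomQ I K →ₗ[A] ((K ⟶ W) →ₗ[A] HomQ I W) where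
  toFun x :=
    { toFun := fun g => HomQ.map I g x
      map_add' := fun g g' => by
        rw [HomQ_map_apply, Functor.map_add, Preadditive.comp_add]
        rfl
      map_smul' := fun a g => by
        rw [RingHom.id_apply, smul_def, HomQ_map_apply]
        change _ = ((show Qs (PO I) 0 ⟶ (tA A).obj K from x) ≫ (tA A).map g) ≫ (tA A).map (a • 𝟙 W)
        rw [Category.assoc, ← Functor.map_comp, Linear.comp_smul, Category.comp_id] }
  map_add' x y := by
    ext g
    exact (HomQ.map I g).map_add x y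
  map_smul' a x := by
    ext g
    exact (HomQ.map I g).map_smul a x

lemma pair_apply {K W : Dual.D A} (x : HomQ I K) (g : K ⟶ W) :
    pair I K W x g = (show Qs (PO I) 0 ⟶ (tA A).obj K from x) ≫ (tA A).map g := rfl

end

section

variable {A : Type u} [CommRing A] [IsLocalRing A] [IsNoetherianRing A]
  (ω : Dual.D A) (hω : Dual.IsDualizing A ω) (hn : Dual.IsNormalized A ω)

include hω hn in
lemma pairing_bijective (K : Dual.D A) (c d : ℤ) (hc : K.IsGE c) (hd : K.IsLE d)
    (hK : ∀ i : ℤ, Module.Finite A (Dual.HD A K i)) :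
    Function.Bijective (pairing (Dg (maximalIdeal A)) K ω) := by
  obtain ⟨h3, ⟨e, he1, he2⟩, hfin⟩ := normData ω hω hn
  have hB0 := B_complex (maximalIdeal A) ω h3 e he1 he2 hfin K c d hc hd hK 0
  have hB : B (maximalIdeal A) ω K :=
    B.of_iso (maximalIdeal A) ((shiftFunctorZero (Dual.D A) ℤ).app K) hB0
  have h1 : (Phi (maximalIdeal A) ω K : _ → _) ∘ (loc (maximalIdeal A) K : _ → _) =
      (fun φ => (loc (maximalIdeal A) ω).comp φ) ∘ (pairing (Dg (maximalIdeal A)) K ω : _ → _) := by
    funext x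
    ext g
    exact Hmap_loc (maximalIdeal A) g x
  have h2 : Function.Bijective ((fun φ : (K ⟶ ω) →ₗ[A] (TI (maximalIdeal A)).obj ω =>
      (loc (maximalIdeal A) ω).comp φ)) :=
    (LinearEquiv.congrRight (LinearEquiv.ofBijective _ (loc_bijective ω))).bijective
  refine (Function.Bijective.of_comp_iff' h2 _).1 ?_
  rw [← h1]
  exact Function.Bijective.comp hB (loc_bijective K)

include hω hn in
/-- Local duality: `Hom(Q, K~) = Hom_A(Hom(K, ω), Hom(Q, ω~))` for `K ∈ D^b_coh`. -/
theorem pair_bijective (K : Dual.D A) (c d : ℤ) (hc : K.IsGE c) (hd : K.IsLE d)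
    (hK : ∀ i : ℤ, Module.Finite A (Dual.HD A K i)) :
    Function.Bijective (pair (maximalIdeal A) K ω) := by
  have h1 : (pair (maximalIdeal A) K ω : _ → _) ∘ (cmp (maximalIdeal A) K : _ → _) =
      (fun φ => (cmp (maximalIdeal A) ω).comp φ) ∘ (pairing (Dg (maximalIdeal A)) K ω : _ → _) := by
    funext x
    ext g
    exact (cmp_naturality (maximalIdeal A) g x).symm
  have h2 : Function.Bijective ((fun φ : (K ⟶ ω) →ₗ[A] (TI (maximalIdeal A)).obj ω =>
      (cmp (maximalIdeal A) ω).comp φ)) :=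
    (LinearEquiv.congrRight (LinearEquiv.ofBijective _ (cmp_bijective (maximalIdeal A) ω))).bijective
  refine (Function.Bijective.of_comp_iff _ (cmp_bijective (maximalIdeal A) K)).1 ?_
  rw [h1]
  exact h2.comp (pairing_bijective ω hω hn K c d hc hd hK)

include hω hn in
/-- `Hom(Q, ω~)` is an injective hull of the residue field. -/
theorem nonempty_equiv_HomQ (E : Type u) [AddCommGroup E] [Module A E]
    (f : ResidueField A →ₗ[A] E) (hf : InjHull.IsInjectiveHull f) :
    Nonempty (HomQ (maximalIdeal A) ω ≃ₗ[A] E) := by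
  obtain ⟨h3, ⟨e, he1, he2⟩, hfin⟩ := normData ω hω hn
  obtain ⟨ψ⟩ := nonempty_equiv_HL ω h3 e he1 he2 E f hf
  exact ⟨((LinearEquiv.ofBijective _ (cmp_bijective (maximalIdeal A) ω)).symm.trans (locEquiv ω)).trans ψ.symm⟩

end

end K175.LDQ
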