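import Groth.Agent.Dual.K175.LDFLF
import Groth.Agent.Localalg.Matlis

/-!
# Injectivity on cohomology and surjectivity on local cohomology
-/

set_option autoImplicit false
universe w u
open CategoryTheory CategoryTheory.Limits AlgebraicGeometry Opposite MonoidalCategory
attribute [local instance] HasDerivedCategory.standard

namespace K175.LDSurj

open Groth.Agent Groth.Agent.LoccohB Groth.Agent.LoccohB.TildeEta
  K175.ZqMod K175.QPush K175.QTors K175.LDQ K175.GeoDual K175.FLFExt K175.LDMain K175.LDFLF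
open IsLocalRing

section alg

variable {R : Type u} [CommRing R] [IsLocalRing R] [IsNoetherianRing R] {E : Type u} [AddCommGroup E]
  [Module R E] {ι : ResidueField R →ₗ[R] E}

theorem injective_iff_surjective (hE : InjHull.IsInjectiveHull ι) {M₁ M₂ Q : Type w} [AddCommGroup M₁] [Module R M₁]
    [AddCommGroup M₂] [Module R M₂] [AddCommGroup Q] [Module R Q] (ε : Q ≃ₗ[R] E) (T : M₁ →ₗ[R] M₂)
    {Z₁ Z₂ : Type*} (D₁ : Z₁ → (M₁ →ₗ[R] Q)) (D₂ : Z₂ → (M₂ →ₗ[R] Q)) (h₁ : Function.Bijective D₁)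
    (h₂ : Function.Bijective D₂) (m : Z₂ → Z₁) (h : ∀ z x, D₁ (m z) x = D₂ z (T x)) :
    Function.Injective T ↔ Function.Surjective m := by
  constructor
  · intro hT z'
    obtain ⟨ψ, hψ⟩ := Localalg.Matlis.exists_extend hE.isInjective T hT (ε.toLinearMap ∘ₗ D₁ z')
    obtain ⟨z, hz⟩ := h₂.2 (ε.symm.toLinearMap ∘ₗ ψ)
    refine ⟨z, h₁.1 (LinearMap.ext fun x => ?_)⟩
    rw [h, hz]
    have h3 : ψ (T x) = ε (D₁ z' x) := LinearMap.congr_fun hψ x
    change ε.symm (ψ (T x)) = D₁ z' x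
    rw [h3, LinearEquiv.symm_apply_apply]
  · intro hm
    rw [injective_iff_map_eq_zero]
    intro x hx
    by_contra hne
    obtain ⟨φ, hφ⟩ := Localalg.Matlis.exists_apply_ne_zero hE hne
    obtain ⟨z', hz'⟩ := h₁.2 (ε.symm.toLinearMap ∘ₗ φ)
    obtain ⟨z, rfl⟩ := hm z'
    have h4 := h z x
    rw [hz', hx, map_zero] at h4
    have h5 : ε.symm (φ x) = 0 := h4
    rw [LinearEquiv.map_eq_zero_iff] at h5
    exact hφ h5

end alg

section

variable {R : Type u} [CommRing R] {X : Scheme.{u}} (f : X ⟶ Spec (CommRingCat.of R))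

/-- precomposition, `R`-linearly. -/
noncomputable def preR {K K' : DCoh.D X} (g : K ⟶ K') (A : DCoh.D X) : HomR f K' A →ₗ[R] HomR f K A where
  toFun x := (g ≫ (show K' ⟶ A from x) : K ⟶ A)
  map_add' x y := Preadditive.comp_add _ _ _ _ _ _
  map_smul' r x := by
    change g ≫ (rho f r • (show K' ⟶ A from x)) = rho f r • (g ≫ (show K' ⟶ A from x))
    rw [Linear.comp_smul]

end

section

open scoped Groth.Agent.Dcoh.MonCat

variable {R : Type u} [CommRing R] [IsLocalRing R] [IsNoetherianRing R]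
  {X : Scheme.{u}} [X.Over (Spec (CommRingCat.of R))] [IsProper (X ↘ Spec (CommRingCat.of R))]
  [DCoh.HasRpush (X ↘ Spec (CommRingCat.of R))]
  (h : DCoh.RpushPreservesQCoh (X ↘ Spec (CommRingCat.of R)))
  (a : DCoh.DQCoh (Spec (CommRingCat.of R)) ⥤ DCoh.DQCoh X)
  (adj : DCoh.RpushQ (X ↘ Spec (CommRingCat.of R)) h ⊣ a) (W : DCoh.DQCoh (Spec (CommRingCat.of R)))
  {ω : Dual.D R} (eW : W.obj ≅ (tA R).obj ω)
  (hω : Dual.IsDualizing R ω) (hn : Dual.IsNormalized R ω)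
  (N : X.Modules) (n : ℕ) (e : (a.obj W).obj ≅ (DCoh.inD X N)⟦(n : ℤ)⟧) (i j : ℕ) (hij : i + j = n)
  {E : Type u} [AddCommGroup E] [Module R E] {ι : ResidueField R →ₗ[R] E} (hE : InjHull.IsInjectiveHull ι)
  (L₁ L₂ L₁' L₂' : X.Modules) [ExactPairing L₁ L₁'] [ExactPairing L₂ L₂'] [DCoh.HasSheafHom L₁]
  [DCoh.HasSheafHom L₂] (hL₁ : FlatMod.IsFinLocFree L₁) (hL₂ : FlatMod.IsFinLocFree L₂) (b : L₁ ⟶ L₂)

include hω hn e hij hE hL₁ hL₂ L₁' L₂' adj eW in
theorem injective_map_iff :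
    Function.Injective (HHmap.map (N ◁ b) i) ↔
      Function.Surjective (_root_.LocCohZ.map (X := X.carrier) ((SheafOfModules.toSheaf X.ringCatSheaf).map
        (FLFDual.av L₁ (DCoh.sheafHom L₁) (adjL L₁) L₂ (DCoh.sheafHom L₂) (adjL L₂) b)) j
        (le_top : ((X ↘ Spec (CommRingCat.of R)) ⁻¹ᵁ PO (maximalIdeal R)) ≤ ⊤)) := by
  obtain ⟨ε⟩ := nonempty_equiv_HomQ ω hω hn E ι hE
  let f := X ↘ Spec (CommRingCat.of R)
  let v : dv L₂ ⟶ dv L₁ := FLFDual.av L₁ (DCoh.sheafHom L₁) (adjL L₁) L₂ (DCoh.sheafHom L₂) (adjL L₂) b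
  let T : HomR f (DCoh.inD X (dv L₁)) ((DCoh.inD X N)⟦(i : ℤ)⟧) →ₗ[R]
      HomR f (DCoh.inD X (dv L₂)) ((DCoh.inD X N)⟦(i : ℤ)⟧) :=
    preR f ((DerivedCategory.singleFunctor X.Modules 0).map v) _
  have h1 := injective_iff_surjective hE ε T _ _
    (dua_bijective f h a adj W eW hω hn N n e j i (by omega) (dv L₁) (isCoh_dv L₁ L₁' hL₁))
    (dua_bijective f h a adj W eW hω hn N n e j i (by omega) (dv L₂) (isCoh_dv L₂ L₂' hL₂))
    (_root_.LocCohZ.map (X := X.carrier) ((SheafOfModules.toSheaf X.ringCatSheaf).map v) j le_top)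
    (fun z x => dua_nat f h a adj W eW N n e j i (by omega) v z x)
  refine Iff.trans ?_ h1
  let H₁ := homLR (R := R) L₁' (cL L₁ L₁') (cL_bijective L₁ L₁') N i
  let H₂ := homLR (R := R) L₂' (cL L₂ L₂') (cL_bijective L₂ L₂') N i
  have h2 : (HHmap.map (N ◁ b) i : _ → _) ∘ (H₁ : _ → _) = (H₂ : _ → _) ∘ (T : _ → _) := by
    funext x
    exact (homL_nat L₁' (cL L₁ L₁') (cL_bijective L₁ L₁') L₂' (cL L₂ L₂') (cL_bijective L₂ L₂') b v
      (FLFDual.cc_av L₁ L₁' (DCoh.sheafHom L₁) (adjL L₁) L₂ L₂' (DCoh.sheafHom L₂) (adjL L₂) b) x).symm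
  have h3 : Function.Injective (HHmap.map (N ◁ b) i) ↔
      Function.Injective ((HHmap.map (N ◁ b) i : _ → _) ∘ (H₁ : _ → _)) :=
    (Function.Injective.of_comp_iff' _ H₁.bijective).symm
  rw [h3, h2]
  exact ⟨fun h => h.of_comp, fun h => H₂.injective.comp h⟩

end

end K175.LDSurj
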