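import Groth.Agent.Dual.K175.NoethPush

/-!
# The projection formula for objects with arbitrary cohomology, `Rf_*` preserving all coproducts
-/

set_option autoImplicit false

universe u

open CategoryTheory CategoryTheory.Limits AlgebraicGeometry Pretriangulated

attribute [local instance] HasDerivedCategory.standard

namespace K175.NoethProj

open Groth.Agent Groth.Agent.PerfA.Restrict Groth.Agent.PerfC.IsoLocus Groth.Agent.PerfC.DTens
  Groth.Agent.PerfC.ExtZeroD Groth.Agent.PerfC.ProjAbs291 Groth.Agent.PerfC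

variable {X Y : Scheme.{u}}

section cop

variable (hRT : ResTens.{u}) {U V : Scheme.{u}} {f : X ⟶ Y} {f' : U ⟶ V} {j' : U ⟶ X} {j : V ⟶ Y}
  [IsOpenImmersion j'] [IsOpenImmersion j] (hp : IsPullback j' f' f j)
  [DCoh.HasRpush f] [DCoh.HasLpull f] [DCoh.HasRpush f'] [DCoh.HasLpull f']
  {A : DCoh.D Y} {E : DCoh.D X}
  (hcop : ∀ J : Type u, PreservesColimitsOfShape (Discrete J) (DCoh.Rpush f'))
  (τ : (LTX Y).obj A ⟶ DCoh.Lpull f ⋙ (LTX X).obj E ⋙ DCoh.Rpush f)

include hRT hp hcop in
lemma preservesColimit_G' (J : Type u) : PreservesColimitsOfShape (Discrete J)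
      (shriekD j ⋙ (DCoh.Lpull f ⋙ (LTX X).obj E ⋙ DCoh.Rpush f) ⋙ restrictD j) := by
  let H := shriekD j ⋙ DCoh.Lpull f ⋙ (LTX X).obj E ⋙ restrictD j'
  have i1 := preservesCoproducts_shriekD j J
  have i2 := preservesCoproducts_Lpull f J
  have i3 := preservesCoproducts_LTX_obj J E
  have i4 := preservesCoproducts_restrictD j' J
  have i5 : PreservesColimitsOfShape (Discrete J) ((LTX X).obj E ⋙ restrictD j') :=
    comp_preservesColimitsOfShape _ _
  have i6 : PreservesColimitsOfShape (Discrete J) (DCoh.Lpull f ⋙ (LTX X).obj E ⋙ restrictD j') :=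
    comp_preservesColimitsOfShape _ _
  have i7 : PreservesColimitsOfShape (Discrete J) H := comp_preservesColimitsOfShape _ _
  have i8 := hcop J
  have i10 : PreservesColimitsOfShape (Discrete J) (H ⋙ DCoh.Rpush f') :=
    comp_preservesColimitsOfShape _ _
  exact preservesColimitsOfShape_of_natIso (F := H ⋙ DCoh.Rpush f')
    (Functor.isoWhiskerLeft (shriekD j ⋙ DCoh.Lpull f ⋙ (LTX X).obj E) (nonempty_Rpush hp).some.symm)

include hRT hp hcop in
lemma isoLocus_coprod (J : Type u) (Z : J → DCoh.D V)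
    (c : Cofan Z) (hc : IsColimit c)
    (h : ∀ i, isoLocus (shτ (j := j) τ) (Z i)) : isoLocus (shτ (j := j) τ) c.pt := by
  intro n
  have i1 := preservesCoproducts_F' (j := j) A J
  have i2 := preservesColimit_G' (j := j) hRT hp (E := E) hcop J
  exact isIso_app_pt (shτ (j := j) τ) (Cofan.mk (c.pt⟦n⟧) (fun i => (c.inj i)⟦n⟧'))
    (isColimitCofanMkObjOfIsColimit (shiftFunctor (DCoh.D V) n) Z _ hc) (fun i => h i n)

include hRT hp hcop in
/-- The projection map is an isomorphism over an affine open. -/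
theorem isoLocus_affine [IsAffine V]
    (h1 : isoLocus (resτ j τ) ((DerivedCategory.singleFunctor Y.Modules 0).obj
      (Coh.structureModule Y))) {K : DCoh.D Y} (hK : DCoh.IsQCohD K) :
    isoLocus (resτ j τ) K := by
  rw [isoLocus_iff hRT hp τ, ← isoLocus_shτ_iff]
  have := isoLocus_isTriangulated ((isTriang_shriekD j).comp (isTriang_F A))
    ((isTriang_shriekD j).comp (isTriang_G E)) (shτ (j := j) τ)
  refine AffGen291.prop_of_isQCohD V (isoLocus (shτ (j := j) τ))
    (fun J Z c hc hZ h => isoLocus_coprod hRT hp hcop τ J Z c hc h) ?_ _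
    (Groth.Agent.PerfA.AffModel.isQCohD_restrictD j hK)
  rw [isoLocus_shτ_iff]
  rw [isoLocus_iff hRT hp τ] at h1
  refine (isoLocus (resτ j τ)).prop_of_iso ((shriekD j).mapIso ?_) h1
  exact ((Scheme.Modules.restrictFunctor j).mapDerivedCategorySingleFunctor 0).app _ ≪≫
    (DerivedCategory.singleFunctor V.Modules 0).mapIso (Scheme.Modules.restrictUnitIso j)

end cop

/-- Locality of the projection map. -/
theorem isIso_app (hRT : ResTens.{u}) (f : X ⟶ Y)
    [DCoh.HasRpush f] [DCoh.HasLpull f] {A : DCoh.D Y} {E : DCoh.D X}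
    (hcop : ∀ (V : Y.Opens) (_ : IsAffineOpen V) [DCoh.HasRpush (f ∣_ V)] (J : Type u),
      PreservesColimitsOfShape (Discrete J) (DCoh.Rpush (f ∣_ V)))
    (τ : (LTX Y).obj A ⟶ DCoh.Lpull f ⋙ (LTX X).obj E ⋙ DCoh.Rpush f)
    (h1 : isoLocus τ ((DerivedCategory.singleFunctor Y.Modules 0).obj (Coh.structureModule Y)))
    {K : DCoh.D Y} (hK : DCoh.IsQCohD K) : IsIso (τ.app K) := by
  refine isIso_of_restrictD_opens _ (fun y => ?_)
  obtain ⟨V, hV, hy, -⟩ := exists_isAffineOpen_mem_and_subset (X := Y) (x := y) (U := ⊤) trivial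
  refine ⟨V, hy, ?_⟩
  have : IsAffine V.toScheme := hV
  have := Groth.Agent.Dcoh.DerSch.hasRpush (f ∣_ V)
  have := Groth.Agent.Dcoh.DerPull.hasLpull (f ∣_ V)
  have h2 : isoLocus (resτ V.ι τ) ((DerivedCategory.singleFunctor Y.Modules 0).obj
      (Coh.structureModule Y)) := fun n => by
    have := h1 n
    exact Functor.map_isIso (restrictD V.ι) _
  exact IsoLocus.isIso_app (resτ V.ι τ)
    (isoLocus_affine hRT (isPullback_morphismRestrict f V).flip (fun J => hcop V hV J) τ h2 hK)

end K175.NoethProj
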