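import Groth.Agent.PerfC.FlasquePush
import Groth.Agent.Dcoh.QcFlasque
import Groth.Agent.Ega4B.RpushCompare
import Groth.Agent.CohqA.HDIZero
import Groth.Agent.CohtopA.NoethVanish
import Groth.Agent.Etdl.H430.CoprodTR
import Groth.Agent.Etrest.RpushSum
import Groth.Agent.PerfB.ModExactCoprod
import Groth.Agent.PerfC.ProjAbs291
import Groth.Agent.Cohder.RpushSum

/-!
# `Rf_*` preserves coproducts on the whole unbounded derived category `D(O_X)`, `X` Noetherian of finite dimension
-/

set_option autoImplicit false

universe u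

open CategoryTheory CategoryTheory.Limits AlgebraicGeometry Opposite TopologicalSpace

attribute [local instance] HasDerivedCategory.standard

namespace K175.NoethPush

open Groth.Agent Groth.Agent.Etrest Groth.Agent.Dcoh.QcFlasque

variable {X Y : Scheme.{u}}

/-- On a Noetherian scheme `QF` is flasque. -/
lemma isFlasqueMod_of_qf [IsNoetherian X] (M : X.Modules) (h : QF X M) :
    PerfC.FlasquePush.IsFlasqueMod M := by
  have : NoetherianSpace X := inferInstance
  rw [PerfC.FlasquePush.isFlasqueMod_iff]
  intro U V hUV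
  exact h V U hUV (NoetherianSpace.isCompact _) (NoetherianSpace.isCompact _)

/-- Higher direct images vanish above the dimension. -/
theorem isZero_rightDerived [IsNoetherian X] [HasInjectiveResolutions X.Modules] (f : X ⟶ Y)
    (d : ℕ) (hd : topologicalKrullDim X ≤ d) (q : ℕ) (hq : d < q) (M : X.Modules) :
    IsZero (((Scheme.Modules.pushforward f).rightDerived q).obj M) := by
  have : NoetherianSpace X := inferInstance
  have : NoetherianSpace X.toTopCat := this
  have h1 : IsZero ((Coh.RpushAb f q).obj (Coh.toAb M)) := by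
    refine CohqA.HDIZero.isZero_RpushAb f (Coh.toAb M) q Set.univ ?_ ?_
    · rw [Opens.isBasis_iff_nbhd]
      intro U x hx
      exact ⟨U, Set.mem_univ _, hx, le_rfl⟩
    · intro V _
      exact CohtopA.NoethVanish.subsingleton_HU_of_krullDim (X := X.toTopCat) d hd (Coh.toAb M) q hq (f ⁻¹ᵁ V)
  exact (Ega4B.RpushCompare.isZero_rpush_iff f M q).2 h1

/-- Coproducts of injectives are acyclic for `f_*`. -/
theorem isAcyc_sigma [IsNoetherian X] (f : X ⟶ Y) {J : Type u} (I : J → X.Modules)
    (hI : ∀ j, Injective (I j)) : RDer2.IsAcyc (Scheme.Modules.pushforward f) (∐ I) := by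
  have hinj : HasInjectiveResolutions X.Modules := inferInstance
  have h1 : QF X (∐ I) := QF.coproduct (Cofan.mk (∐ I) (Limits.Sigma.ι I)) (coproductIsCoproduct I)
    (fun i => have := hI i; qf_of_injective (I i))
  intro q
  exact PerfC.FlasquePush.isZero_Rpush f (∐ I) (isFlasqueMod_of_qf _ h1) (q + 1) (Nat.succ_pos q)

open Groth.Agent.Dcoh.SecCoprod in
/-- `f_*` preserves coproducts for `f` quasi-compact. -/
theorem isIso_sigmaComparison_pushforward (f : X ⟶ Y) [QuasiCompact f] {J : Type u} (M : J → X.Modules) :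
    IsIso (sigmaComparison (Scheme.Modules.pushforward f) M) := by
  classical
  let F := Scheme.Modules.pushforward f
  let hc := coproductIsCoproduct M
  let hc' := coproductIsCoproduct fun j => F.obj (M j)
  let θ := sigmaComparison F M
  have hθ : ∀ j, Limits.Sigma.ι (fun j => F.obj (M j)) j ≫ θ = F.map (Limits.Sigma.ι M j) :=
    fun j => ι_comp_sigmaComparison F M j
  have h3 : ∀ i, proj hc' i = θ ≫ F.map (proj hc i) := by
    intro i
    apply Cofan.IsColimit.hom_ext hc'
    intro j
    have e1 : (Cofan.mk _ (Limits.Sigma.ι fun j => F.obj (M j))).inj j ≫ θ ≫ F.map (proj hc i) =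
        F.map (Limits.Sigma.ι M j ≫ proj hc i) := by
      rw [F.map_comp, ← hθ]
      exact (Category.assoc _ _ _).symm
    rw [e1]
    by_cases hji : j = i
    · subst hji
      rw [inj_proj hc' j]
      have := inj_proj hc j
      exact ((F.congr_map this).trans (F.map_id _)).symm
    · rw [inj_proj_ne hc' hji]
      have := inj_proj_ne hc hji
      exact ((F.congr_map this).trans (F.map_zero _ _)).symm
  have hmono : Mono θ := by
    refine Cohder.RpushSum.mono_of_locally _ fun V s hs x hx => ?_
    obtain ⟨V', hxV, hV, h1⟩ := exists_isFinSum_nhd hc' s x hx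
    refine ⟨V', hV, hxV, ?_⟩
    obtain ⟨t, h2, -⟩ := h1.eq_sum_proj hc'
    refine h2.trans (Finset.sum_eq_zero fun i _ => ?_)
    have h5 : θ.app V' ((∐ fun j => F.obj (M j)).presheaf.map (homOfLE hV).op s) = 0 := by
      rw [Dcoh.SecCoprod.app_map, hs, map_zero]
    have h4 : (proj hc' i).app V' ((∐ fun j => F.obj (M j)).presheaf.map (homOfLE hV).op s) = 0 := by
      rw [h3]
      change (F.map (proj hc i)).app V' (θ.app V' _) = 0
      rw [h5, map_zero]
    exact (congrArg _ h4).trans (map_zero _)
  have hepi : Epi θ := by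
    refine Cohder.RpushSum.epi_of_locally _ fun V t x hx => ?_
    obtain ⟨V₃, hV₃, hx₃, h3'⟩ := exists_isAffineOpen_mem_and_subset (U := V) hx
    have hV3 : V₃ ≤ V := h3'
    obtain ⟨a, m, ha⟩ := isFinSum_of_isCompact (c := Cofan.mk (∐ M) (Limits.Sigma.ι M)) hc
      (f.isCompact_preimage hV₃.isCompact : IsCompact ((f ⁻¹ᵁ V₃ : X.Opens) : Set X))
      ((F.obj (∐ M)).presheaf.map (homOfLE hV3).op t)
    refine ⟨V₃, hV3, ∑ i ∈ a, (Limits.Sigma.ι (fun j => F.obj (M j)) i).app V₃ (m i), hx₃, ?_⟩
    rw [map_sum]
    have h6 : ∀ i, θ.app V₃ ((Limits.Sigma.ι (fun j => F.obj (M j)) i).app V₃ (m i)) =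
        (Limits.Sigma.ι M i).app (f ⁻¹ᵁ V₃) (m i) := by
      intro i
      change (Limits.Sigma.ι (fun j => F.obj (M j)) i ≫ θ).app V₃ (m i) = _
      rw [hθ]
      rfl
    simp_rw [h6]
    exact ha.symm
  exact isIso_of_mono_of_epi θ

theorem preservesCoproducts_pushforward (f : X ⟶ Y) [QuasiCompact f] (J : Type u) :
    PreservesColimitsOfShape (Discrete J) (Scheme.Modules.pushforward f) := by
  have h : ∀ K : J → X.Modules, PreservesColimit (Discrete.functor K) (Scheme.Modules.pushforward f) :=
    fun K => by
      have := isIso_sigmaComparison_pushforward f K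
      exact PreservesCoproduct.of_iso_comparison _ _
  exact preservesColimitsOfShape_of_discrete _

/-- **`Rf_*` preserves all coproducts** for `X` Noetherian of finite dimension. -/
theorem preservesCoproducts_Rpush [IsNoetherian X] (f : X ⟶ Y) [QuasiCompact f] [DCoh.HasRpush f]
    (d : ℕ) (hd : topologicalKrullDim X ≤ d) (J : Type u) :
    PreservesColimitsOfShape (Discrete J) (DCoh.Rpush f) := by
  have hA : IsGrothendieckAbelian.{u} X.Modules := Groth.Agent.S0484.result _ X.ringCatSheaf
  have hB : IsGrothendieckAbelian.{u} Y.Modules := Groth.Agent.S0484.result _ Y.ringCatSheaf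
  have hkii : Groth.Agent.Etdl.H430.AmpTR.HasKInjInj X.Modules :=
    Groth.Agent.Etdl.H430.AmpTR.hasKInjInj_of_isGrothendieckAbelian X.Modules
  have hfl : PreservesFiniteLimits (Scheme.Modules.pushforward f) :=
    PerfC.FlasquePush.preservesFiniteLimits_pushforward f
  have hp := preservesCoproducts_pushforward f J
  have hinj : HasInjectiveResolutions X.Modules := inferInstance
  have hc : ∀ q : ℕ, PreservesColimitsOfShape (Discrete J) ((Scheme.Modules.pushforward f).rightDerived q) :=
    fun q => RpushSum.preservesColimitsOfShape_rightDerived (Scheme.Modules.pushforward f)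
      (fun I hI => isAcyc_sigma f I hI) q
  have h := Groth.Agent.Etdl.H430.CoprodTR.preservesCoproducts_TR (Scheme.Modules.pushforward f) d
    (fun q hq M => isZero_rightDerived f d hd q hq M) hc
  exact preservesColimitsOfShape_of_natIso (RDer3.TRIso (Scheme.Modules.pushforward f)).symm

end K175.NoethPush
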