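import Groth.Agent.LoccohB.GammaD
import Groth.Agent.LocCohZ.K287.LocVan
import Groth.Agent.LocCohZ.K287.Excis
import Groth.Agent.PerfA.ExtZero

/-!
# Local cohomology as `Hom` in `D(O_X)`

`QU U` is `O_X / j_! O_U`; `hzEquiv : Hom_{D(O_X)}(QU U, M[n]) ≃+ H^n_Z(X, M)`, natural in `M`.
-/

set_option autoImplicit false
universe w v' u' u
open CategoryTheory CategoryTheory.Limits AlgebraicGeometry Opposite TopologicalSpace
attribute [local instance] HasDerivedCategory.standard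

namespace K175.ZqMod

open Groth.Agent Groth.Agent.PerfA.ExtZero Groth.Agent.LoccohB.GammaD
  Groth.Agent.CohqB.DevSupport Groth.Agent.CohqA.ExtCompare Groth.Agent.Dcoh.Restrict
  Groth.Agent.LocCohZ.K287.Excis

attribute [local instance] hasExt_ab

variable {X : Scheme.{u}} (U : X.Opens)

/-- `O_X / j_! O_U`. -/
noncomputable abbrev QU : X.Modules := cokernel ((OUF X).map (homOfLE (le_top : U ≤ ⊤)))

/-- `O_X ⟶ O_X / j_! O_U`. -/
noncomputable abbrev qπ : OU (⊤ : X.Opens) ⟶ QU U := cokernel.π _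

/-- The canonical section of `O_X / j_! O_U`. -/
noncomputable def secQ : Γ(QU U, ⊤) := (qπ U).app ⊤ (gen ⊤)

lemma qπ_eq : qπ U = desc (secQ U) := by
  apply PerfA.ExtZero.hom_ext
  rw [desc_app_gen]
  rfl

lemma res_app {M N : X.Modules} (g : M ⟶ N) {V W : X.Opens} (i : W ⟶ V) (s : Γ(M, V)) :
    N.presheaf.map i.op (g.app V s) = g.app W (M.presheaf.map i.op s) :=
  (NatTrans.naturality_apply g.mapPresheaf i.op s).symm

lemma res_secQ : (QU U).presheaf.map (homOfLE (le_top : U ≤ ⊤)).op (secQ U) = 0 := by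
  have h1 : (OUF X).map (homOfLE (le_top : U ≤ ⊤)) ≫ desc (secQ U) = 0 := by
    rw [← qπ_eq]
    exact cokernel.condition _
  rw [map_desc] at h1
  apply desc_injective
  rw [h1, desc_zero]

/-- Maps out of `O_X / j_! O_U` are sections vanishing on `U`. -/
lemma evQ_injective (M : X.Modules) : Function.Injective (fun g : QU U ⟶ M => g.app ⊤ (secQ U)) := by
  intro f g h
  have h' : f.app ⊤ (secQ U) = g.app ⊤ (secQ U) := h
  rw [← cancel_epi (qπ U), qπ_eq, desc_comp, desc_comp, h']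

lemma exists_evQ (M : X.Modules) (s : Γ(M, ⊤))
    (hs : M.presheaf.map (homOfLE (le_top : U ≤ ⊤)).op s = 0) :
    ∃ g : QU U ⟶ M, g.app ⊤ (secQ U) = s := by
  have h1 : (OUF X).map (homOfLE (le_top : U ≤ ⊤)) ≫ desc s = 0 := by
    rw [map_desc, hs, desc_zero]
  refine ⟨cokernel.desc _ _ h1, ?_⟩
  have h2 : qπ U ≫ cokernel.desc _ _ h1 = desc s := cokernel.π_desc _ _ _
  rw [qπ_eq, desc_comp] at h2
  exact desc_injective h2

lemma res_evQ {M : X.Modules} (g : QU U ⟶ M) :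
    M.presheaf.map (homOfLE (le_top : U ≤ ⊤)).op (g.app ⊤ (secQ U)) = 0 := by
  rw [res_app, res_secQ, map_zero]

lemma exists_canQ : ∃ c : _root_.LocCohZ.zq (X := X.carrier) (le_top : U ≤ ⊤) ⟶ (abF X).obj (QU U),
    evz (X := X.carrier) (le_top : U ≤ ⊤) _ c = secQ U :=
  exists_evz (X := X.carrier) (le_top : U ≤ ⊤) ((abF X).obj (QU U)) (secQ U) (res_secQ U)

/-- The canonical map `ℤ_X/ℤ_U ⟶ O_X/j_! O_U`. -/
noncomputable def canQ : _root_.LocCohZ.zq (X := X.carrier) (le_top : U ≤ ⊤) ⟶ (abF X).obj (QU U) :=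
  (exists_canQ U).choose

lemma evz_canQ : evz (X := X.carrier) (le_top : U ≤ ⊤) _ (canQ U) = secQ U := (exists_canQ U).choose_spec

lemma canQ_bijective (M : X.Modules) :
    Function.Bijective (fun g : QU U ⟶ M => canQ U ≫ (abF X).map g) := by
  have key : ∀ g : QU U ⟶ M, evz (X := X.carrier) (le_top : U ≤ ⊤) _ (canQ U ≫ (abF X).map g) =
      g.app ⊤ (secQ U) := by
    intro g
    rw [evz_comp, evz_canQ]
    rfl
  constructor
  · intro f g h
    apply evQ_injective U M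
    dsimp only
    rw [← key f, ← key g]
    exact congrArg _ h
  · intro a
    obtain ⟨g, hg⟩ := exists_evQ U M (evz (X := X.carrier) (le_top : U ≤ ⊤) ((abF X).obj M) a)
      (map_evz (X := X.carrier) (le_top : U ≤ ⊤) ((abF X).obj M) a)
    refine ⟨g, ?_⟩
    apply evz_injective (X := X.carrier) (le_top : U ≤ ⊤) ((abF X).obj M)
    dsimp only
    rw [key g, hg]

theorem subsingleton_hz_injective (I : X.Modules) [Injective I] (n : ℕ) :
    Subsingleton (Abelian.Ext.{u} (_root_.LocCohZ.zq (X := X.carrier) (le_top : U ≤ ⊤)) ((abF X).obj I) (n + 1)) := by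
  have := Groth.Agent.Ega3B.InjMod.isFlasque_of_injective I
  exact Groth.Agent.LocCohZ.K287.LocVan.subsingleton_HZ_of_isFlasque (X := X.carrier)
    (Coh.toAb I) (le_top : U ≤ ⊤) n

/-- `Ext^n(O_X/j_!O_U, M) = H^n_Z(X, M)`. -/
noncomputable def extEquivZ [HasExt.{w} X.Modules] (M : X.Modules) (n : ℕ) :
    Abelian.Ext.{w} (QU U) M n ≃+ _root_.LocCohZ.HZM X M n U :=
  haveI := Groth.Agent.PerfA.AffVan.enoughInjectives X
  compareEquiv (abF X) (canQ U) (canQ_bijective U)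
    (fun I _ n => subsingleton_hz_injective U I n) M n

lemma extEquivZ_comp_mk₀ [HasExt.{w} X.Modules] {M N : X.Modules} {n : ℕ}
    (x : Abelian.Ext.{w} (QU U) M n) (φ : M ⟶ N) :
    extEquivZ U N n (x.comp (Abelian.Ext.mk₀ φ) (add_zero n)) =
      _root_.LocCohZ.map (X := X.carrier) ((SheafOfModules.toSheaf X.ringCatSheaf).map φ) n
        (le_top : U ≤ ⊤) (extEquivZ U M n x) :=
  compare_comp_mk₀ (abF X) (canQ U) x φ

/-- `Hom_{D(O_X)}(O_X/j_!O_U, M[n]) = H^n_Z(X, M)`. -/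
noncomputable def hzEquiv (M : X.Modules) (n : ℕ) :
    (DCoh.inD X (QU U) ⟶ (DCoh.inD X M)⟦(n : ℤ)⟧) ≃+ _root_.LocCohZ.HZM X M n U :=
  haveI := HasExt.standard X.Modules
  (Abelian.Ext.homAddEquiv (X := QU U) (Y := M) (n := n)).symm.trans (extEquivZ U M n)

lemma hzEquiv_naturality {M N : X.Modules} {n : ℕ}
    (x : DCoh.inD X (QU U) ⟶ (DCoh.inD X M)⟦(n : ℤ)⟧) (φ : M ⟶ N) :
    hzEquiv U N n (x ≫ ((DerivedCategory.singleFunctor X.Modules 0).map φ)⟦(n : ℤ)⟧') =
      _root_.LocCohZ.map (X := X.carrier) ((SheafOfModules.toSheaf X.ringCatSheaf).map φ) n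
        (le_top : U ≤ ⊤) (hzEquiv U M n x) := by
  have := HasExt.standard X.Modules
  obtain ⟨y, rfl⟩ := (Abelian.Ext.homAddEquiv (X := QU U) (Y := M)
    (n := n)).surjective x
  have h1 : hzEquiv U M n (Abelian.Ext.homAddEquiv y) = extEquivZ U M n y := by
    change extEquivZ U M n (Abelian.Ext.homAddEquiv.symm (Abelian.Ext.homAddEquiv y)) = _
    rw [AddEquiv.symm_apply_apply]
  have h2 : (Abelian.Ext.homAddEquiv (X := QU U) (Y := M) (n := n) y) ≫
      ((DerivedCategory.singleFunctor X.Modules 0).map φ)⟦(n : ℤ)⟧' =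
      Abelian.Ext.homAddEquiv (y.comp (Abelian.Ext.mk₀ φ) (add_zero n)) := by
    change y.hom ≫ _ = (y.comp (Abelian.Ext.mk₀ φ) (add_zero n)).hom
    rw [Abelian.Ext.comp_hom, Abelian.Ext.mk₀_hom, ShiftedHom.comp_mk₀]
  rw [h2, h1]
  change extEquivZ U N n (Abelian.Ext.homAddEquiv.symm (Abelian.Ext.homAddEquiv
    (y.comp (Abelian.Ext.mk₀ φ) (add_zero n)))) = _
  rw [AddEquiv.symm_apply_apply, extEquivZ_comp_mk₀]

end K175.ZqMod
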