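import Groth.Agent.LoccohB.SuppInd
import Groth.Agent.PerfA.HypAdj
import Groth.Agent.PerfA.OUTF
import Groth.Agent.Dcoh.DerPull
import Groth.Agent.LoccohB.BCHyp
import Groth.Agent.LoccohB.DQCohTri
import Groth.Agent.PerfA.AffModel
import Groth.Agent.Dual.K175.ZqMod

/-!
# `O_X / j_! O_U` and `Rf_*`

For `f : X ⟶ S` with `S` affine, `V ⊆ S` open and `K ∈ D_QCoh(O_X)`:
`Hom(O_X/j_!O_{f⁻¹V}[-m], K) = Hom(O_S/j_!O_V[-m], Rf_*K)` (`psi_bijective`).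
-/

set_option autoImplicit false
universe w v' u' u
open CategoryTheory CategoryTheory.Limits AlgebraicGeometry Opposite TopologicalSpace Pretriangulated
attribute [local instance] HasDerivedCategory.standard

namespace K175.QPush

open Groth.Agent Groth.Agent.PerfA.ExtZero Groth.Agent.PerfA.Hyp0 Groth.Agent.PerfA.Hyp1
  Groth.Agent.PerfA.HypTheta Groth.Agent.PerfA.Restrict Groth.Agent.LoccohB.VanOn
  Groth.Agent.LoccohB.SuppInd K175.ZqMod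

section Tri

variable {C : Type*} [Category* C] [Preadditive C] [HasZeroObject C] [HasShift C ℤ]
  [∀ n : ℤ, (shiftFunctor C n).Additive] [Pretriangulated C]

lemma bij_post (T : Triangle C) (hT : T ∈ distTriang C) (W : C) (h0 : ∀ g : W ⟶ T.obj₃, g = 0)
    (h1 : ∀ g : W ⟶ T.obj₃⟦(-1 : ℤ)⟧, g = 0) : Function.Bijective (fun g : W ⟶ T.obj₁ => g ≫ T.mor₁) := by
  constructor
  · intro g g' h
    have h2 : (g - g') ≫ T.mor₁ = 0 := by
      rw [Preadditive.sub_comp, sub_eq_zero]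
      exact h
    obtain ⟨ψ, hψ⟩ := Triangle.coyoneda_exact₂ _ (inv_rot_of_distTriang _ hT) (g - g') h2
    have h3 : ψ = 0 := h1 ψ
    rw [← sub_eq_zero, hψ, h3]
    exact zero_comp
  · intro g
    obtain ⟨ψ, hψ⟩ := Triangle.coyoneda_exact₂ _ hT g (h0 _)
    exact ⟨ψ, hψ.symm⟩

lemma bij_pre (T : Triangle C) (hT : T ∈ distTriang C) (W : C) (h0 : ∀ g : T.obj₁ ⟶ W, g = 0)
    (h1 : ∀ g : T.obj₁⟦(1 : ℤ)⟧ ⟶ W, g = 0) : Function.Bijective (fun g : T.obj₃ ⟶ W => T.mor₂ ≫ g) := by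
  constructor
  · intro g g' h
    have h2 : T.mor₂ ≫ (g - g') = 0 := by
      rw [Preadditive.comp_sub, sub_eq_zero]
      exact h
    obtain ⟨ψ, hψ⟩ := Triangle.yoneda_exact₃ _ hT (g - g') h2
    rw [← sub_eq_zero, hψ, h1 ψ, comp_zero]
  · intro g
    obtain ⟨ψ, hψ⟩ := Triangle.yoneda_exact₂ _ hT g (h0 _)
    exact ⟨ψ, hψ.symm⟩

end Tri

section Vanish

variable {X : Scheme.{u}} (U : X.Opens)

/-- Sections of `j_* N` over `X` vanishing on `U` are zero. -/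
lemma hom_QU_pushforward_eq_zero {N : (U : Scheme.{u}).Modules}
    (g : QU U ⟶ (Scheme.Modules.pushforward U.ι).obj N) : g = 0 := by
  apply evQ_injective U
  dsimp only
  have h1 := res_evQ U g
  have h2 : (U.ι ⁻¹ᵁ U) = U.ι ⁻¹ᵁ (⊤ : X.Opens) := by
    ext x
    simp
  have h3 : Function.Injective (((Scheme.Modules.pushforward U.ι).obj N).presheaf.map
      (homOfLE (le_top : U ≤ ⊤)).op) := by
    have : IsIso ((TopologicalSpace.Opens.map U.ι.base).map (homOfLE (le_top : U ≤ ⊤))) := by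
      refine ⟨homOfLE h2.ge, ?_, ?_⟩ <;> apply Subsingleton.elim
    have h4 : IsIso (N.presheaf.map ((TopologicalSpace.Opens.map U.ι.base).map (homOfLE (le_top : U ≤ ⊤))).op) :=
      inferInstance
    exact ((ConcreteCategory.isIso_iff_bijective _).1 h4).1
  apply h3
  rw [h1]
  exact (map_zero _).symm

lemma isZero_restrict_QU : IsZero ((Scheme.Modules.restrictFunctor U.ι).obj (QU U)) := by
  rw [IsZero.iff_id_eq_zero]
  apply ((Scheme.Modules.restrictAdjunction U.ι).homEquiv _ _).injective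
  rw [hom_QU_pushforward_eq_zero U (((Scheme.Modules.restrictAdjunction U.ι).homEquiv _ _) (𝟙 _)),
    hom_QU_pushforward_eq_zero U (((Scheme.Modules.restrictAdjunction U.ι).homEquiv _ _) 0)]

/-- `O_X/j_!O_U [-m]`. -/
noncomputable abbrev Qs (m : ℤ) : DCoh.D X := (DerivedCategory.singleFunctor X.Modules m).obj (QU U)

lemma vanOn_Qs (m : ℤ) : vanOn U (Qs U m) :=
  ((DerivedCategory.singleFunctor (U : Scheme.{u}).Modules m).map_isZero (isZero_restrict_QU U)).of_iso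
    (((Scheme.Modules.restrictFunctor U.ι).mapDerivedCategorySingleFunctor m).app (QU U))

lemma hom_Qs_eq_zero {m : ℤ} {K : DCoh.D X} (hK : IsLoc U K) (g : Qs U m ⟶ K) : g = 0 :=
  hK _ (vanOn_Qs U m) g

/-- Maps out of `j_! O_U [-m]` into an object vanishing on `U`. -/
lemma hom_P_eq_zero {m : ℤ} {K : DCoh.D X} (hK : vanOn U K) (g : P m U ⟶ K) : g = 0 := by
  let e : P m U ≅ (PerfC.ExtZeroD.shriekD U.ι).obj
      ((DerivedCategory.singleFunctor (U : Scheme.{u}).Modules m).obj (Coh.structureModule U.toScheme)) :=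
    (DerivedCategory.singleFunctor X.Modules m).mapIso (PerfA.OUTF.isoShriek' U) ≪≫
      (((PerfC.ExtZero.jShriek U.ι).mapDerivedCategorySingleFunctor m).symm.app _)
  rw [← cancel_epi e.inv, comp_zero]
  apply ((PerfC.ExtZeroD.adjunction U.ι).homEquiv _ _).injective
  exact hK.eq_of_tgt _ _

/-- The triangle of `j_!O_U ⟶ O_X ⟶ O_X/j_!O_U`. -/
lemma exists_triangle (m : ℤ) : ∃ δ, Triangle.mk (Pmap m (le_top : U ≤ ⊤))
    ((DerivedCategory.singleFunctor X.Modules m).map (qπ U)) δ ∈ distTriang (DCoh.D X) := by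
  have hS : (ShortComplex.mk ((OUF X).map (homOfLE (le_top : U ≤ ⊤))) (qπ U) (cokernel.condition _)).ShortExact :=
    { exact := ShortComplex.exact_cokernel _
      mono_f := inferInstanceAs (Mono ((OUF X).map (homOfLE (le_top : U ≤ ⊤))))
      epi_g := inferInstanceAs (Epi (cokernel.π _)) }
  exact LoccohB.BCHyp.exists_tri hS m

/-- For `K` vanishing on `U`, maps out of `O_X/j_!O_U` are maps out of `O_X`. -/
lemma bijective_qπ {m : ℤ} {K : DCoh.D X} (hK : vanOn U K) :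
    Function.Bijective (fun g : Qs U m ⟶ K =>
      (DerivedCategory.singleFunctor X.Modules m).map (qπ U) ≫ g) := by
  obtain ⟨δ, hT⟩ := exists_triangle U m
  have key : ∀ g : (P m U)⟦(1 : ℤ)⟧ ⟶ K, g = 0 := by
    intro g
    apply (shiftFunctor (DCoh.D X) (-1 : ℤ)).map_injective
    rw [Functor.map_zero]
    let e : ((P m U)⟦(1 : ℤ)⟧)⟦(-1 : ℤ)⟧ ≅ P m U := (shiftFunctorCompIsoId (DCoh.D X) (1 : ℤ) (-1) (by simp)).app _
    rw [← cancel_epi e.inv, comp_zero]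
    exact hom_P_eq_zero U (vanOn_shift hK (-1)) _
  exact bij_pre _ hT K (fun g => hom_P_eq_zero U hK g) key

/-- Torsion/local decomposition. -/
lemma exists_dec [DCoh.HasRpush U.ι] (K : DCoh.D X) : ∃ (Z : DCoh.D X) (i : Z ⟶ K)
    (δ : (DCoh.Rpush U.ι).obj ((restrictD U.ι).obj K) ⟶ Z⟦(1 : ℤ)⟧),
    Triangle.mk i (η U K) δ ∈ distTriang (DCoh.D X) ∧ vanOn U Z := by
  obtain ⟨Z, i, δ, hT⟩ := distinguished_cocone_triangle₁ (η U K)
  refine ⟨Z, i, δ, hT, ?_⟩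
  have h1 := (restrictD U.ι).map_distinguished _ hT
  exact (Triangle.isZero₁_iff_isIso₂ _ h1).2 (isIso_restrictD_η U K)

end Vanish

section Push

variable {X S : Scheme.{u}} (f : X ⟶ S) (V : S.Opens)

/-- `O_S/j_!O_V ⟶ f_*(O_X/j_!O_{f⁻¹V})`. -/
noncomputable def ηQ : QU V ⟶ (Scheme.Modules.pushforward f).obj (QU (f ⁻¹ᵁ V)) :=
  cokernel.desc _ (ηU f ⊤ ≫ (Scheme.Modules.pushforward f).map (qπ (f ⁻¹ᵁ V))) (by
    rw [← Category.assoc, map_ηU f (le_top : V ≤ ⊤), Category.assoc, ← Functor.map_comp]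
    have : (OUF X).map (homOfLE (f.preimage_mono (le_top : V ≤ ⊤))) ≫ qπ (f ⁻¹ᵁ V) = 0 :=
      cokernel.condition _
    rw [this, Functor.map_zero, comp_zero])

lemma qπ_ηQ : qπ V ≫ ηQ f V = ηU f ⊤ ≫ (Scheme.Modules.pushforward f).map (qπ (f ⁻¹ᵁ V)) :=
  cokernel.π_desc _ _ _

variable [DCoh.HasRpush f]

/-- The comparison map. -/
noncomputable def psi {m : ℤ} {K : DCoh.D X} (φ : Qs (f ⁻¹ᵁ V) m ⟶ K) : Qs V m ⟶ (DCoh.Rpush f).obj K :=
  adjS f (ηQ f V) m ≫ (DCoh.Rpush f).map φ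

lemma psi_comp {m : ℤ} {K L : DCoh.D X} (φ : Qs (f ⁻¹ᵁ V) m ⟶ K) (g : K ⟶ L) :
    psi f V (φ ≫ g) = psi f V φ ≫ (DCoh.Rpush f).map g := by
  rw [psi, psi, Functor.map_comp, Category.assoc]

lemma psi_add {m : ℤ} {K : DCoh.D X} (φ φ' : Qs (f ⁻¹ᵁ V) m ⟶ K) :
    psi f V (φ + φ') = psi f V φ + psi f V φ' := by
  have := Groth.Agent.PerfA.HypTheta.additive_Rpush f
  rw [psi, psi, psi, Functor.map_add, Preadditive.comp_add]

lemma qπ_psi {m : ℤ} {K : DCoh.D X} (φ : Qs (f ⁻¹ᵁ V) m ⟶ K) :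
    (DerivedCategory.singleFunctor S.Modules m).map (qπ V) ≫ psi f V φ =
      adjP f (V := ⊤) ((DerivedCategory.singleFunctor X.Modules m).map (qπ (f ⁻¹ᵁ V)) ≫ φ) := by
  rw [psi, adjP, Functor.map_comp, ← Category.assoc, ← Category.assoc]
  congr 1
  exact map_adjS f (ηQ f V) (ηU f ⊤) (qπ V) (qπ (f ⁻¹ᵁ V)) (qπ_ηQ f V) m

/-- `Rf_* Rj_*` is local. -/
lemma isLoc_Rpush_Rpush [DCoh.HasRpush (f ⁻¹ᵁ V).ι] (M : DCoh.D (f ⁻¹ᵁ V : Scheme.{u})) :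
    IsLoc V ((DCoh.Rpush f).obj ((DCoh.Rpush (f ⁻¹ᵁ V).ι).obj M)) := by
  have := Dcoh.DerSch.hasRpush (f ∣_ V)
  have := Dcoh.DerSch.hasRpush V.ι
  have := Dcoh.DerSch.hasRpush ((f ⁻¹ᵁ V).ι ≫ f)
  have := Dcoh.DerSch.hasRpush ((f ∣_ V) ≫ V.ι)
  obtain ⟨e₁⟩ := Dcoh.DerPull.exists_rpushCompIso (f ⁻¹ᵁ V).ι f
  obtain ⟨e₂⟩ := Dcoh.DerPull.exists_rpushCompIso (f ∣_ V) V.ι
  have h : (f ∣_ V) ≫ V.ι = (f ⁻¹ᵁ V).ι ≫ f := morphismRestrict_ι f V
  have e₃ : Nonempty (DCoh.Rpush ((f ∣_ V) ≫ V.ι) ≅ DCoh.Rpush ((f ⁻¹ᵁ V).ι ≫ f)) := by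
    have : ∀ (g g' : (f ⁻¹ᵁ V : Scheme.{u}) ⟶ S) [DCoh.HasRpush g] [DCoh.HasRpush g'], g = g' →
        Nonempty (DCoh.Rpush g ≅ DCoh.Rpush g') := by
      intro g g' _ _ hg
      subst hg
      exact ⟨Iso.refl _⟩
    exact this _ _ h
  obtain ⟨e₃⟩ := e₃
  let e : (DCoh.Rpush f).obj ((DCoh.Rpush (f ⁻¹ᵁ V).ι).obj M) ≅
      (DCoh.Rpush V.ι).obj ((DCoh.Rpush (f ∣_ V)).obj M) :=
    e₁.app M ≪≫ e₃.symm.app M ≪≫ e₂.symm.app M
  intro N hN φ
  rw [← cancel_mono e.hom, zero_comp]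
  exact isLoc_Rpush V _ N hN _

/-- `Hom(O_X/j_!O_{f⁻¹V}[-m], K) = Hom(O_S/j_!O_V[-m], Rf_*K)`. -/
theorem psi_bijective [IsAffine S] [QuasiCompact f] [QuasiSeparated f]
    [QuasiCompact (f ⁻¹ᵁ V).ι] {K : DCoh.D X} (hK : DCoh.IsQCohD K) (m : ℤ) :
    Function.Bijective (psi f V : (Qs (f ⁻¹ᵁ V) m ⟶ K) → _) := by
  have := Dcoh.DerSch.hasRpush (f ⁻¹ᵁ V).ι
  obtain ⟨Z, i, δ, hT, hZ⟩ := exists_dec (f ⁻¹ᵁ V) K
  have hloc : DCoh.IsQCohD ((DCoh.Rpush (f ⁻¹ᵁ V).ι).obj ((restrictD (f ⁻¹ᵁ V).ι).obj K)) := by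
    apply PerfA.HypAdj.isQCohD_Rpush
    exact PerfA.AffModel.isQCohD_restrictD _ hK
  have hZq : DCoh.IsQCohD Z :=
    (DCoh.IsQCohD (X := X)).ext_of_isTriangulatedClosed₁ _ hT hK hloc
  -- postcomposition with `i`
  have h1 : Function.Bijective (fun g : Qs (f ⁻¹ᵁ V) m ⟶ Z => g ≫ i) := by
    refine bij_post _ hT _ (fun g => hom_Qs_eq_zero _ (isLoc_Rpush _ _) g)
      (fun g => hom_Qs_eq_zero _ ((isLoc_Rpush _ _).shift (-1)) g)
  have h2 : Function.Bijective (fun g : Qs V m ⟶ (DCoh.Rpush f).obj Z => g ≫ (DCoh.Rpush f).map i) := by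
    let := Dcoh.DerSch.rpushCommShift f
    have := Dcoh.DerSch.rpush_isTriangulated f
    refine bij_post _ ((DCoh.Rpush f).map_distinguished _ hT) _
      (fun g => hom_Qs_eq_zero _ (isLoc_Rpush_Rpush f V _) g)
      (fun g => hom_Qs_eq_zero _ ((isLoc_Rpush_Rpush f V _).shift (-1)) g)
  -- precomposition with `qπ`
  have h3 := bijective_qπ (m := m) (f ⁻¹ᵁ V) hZ
  have h4 := bijective_qπ (m := m) V (vanOn_Rpush f V Z hZ)
  have h5 : Function.Bijective (adjP f : (P m (f ⁻¹ᵁ (⊤ : S.Opens)) ⟶ Z) → _) :=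
    PerfA.HypAdj.adjP_bijective f hZq m (isAffineOpen_top S)
  have h6 : Function.Bijective (psi f V : (Qs (f ⁻¹ᵁ V) m ⟶ Z) → _) := by
    have h7 : (fun g : Qs V m ⟶ (DCoh.Rpush f).obj Z =>
        (DerivedCategory.singleFunctor S.Modules m).map (qπ V) ≫ g) ∘ (psi f V : (Qs (f ⁻¹ᵁ V) m ⟶ Z) → _) =
        (adjP f : (P m (f ⁻¹ᵁ (⊤ : S.Opens)) ⟶ Z) → _) ∘ (fun g : Qs (f ⁻¹ᵁ V) m ⟶ Z =>
          (DerivedCategory.singleFunctor X.Modules m).map (qπ (f ⁻¹ᵁ V)) ≫ g) := by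
      funext φ
      exact qπ_psi f V φ
    refine (Function.Bijective.of_comp_iff' h4 _).1 ?_
    rw [h7]
    exact h5.comp h3
  have h8 : (psi f V : (Qs (f ⁻¹ᵁ V) m ⟶ K) → _) ∘ (fun g : Qs (f ⁻¹ᵁ V) m ⟶ Z => g ≫ i) =
      (fun g : Qs V m ⟶ (DCoh.Rpush f).obj Z => g ≫ (DCoh.Rpush f).map i) ∘
        (psi f V : (Qs (f ⁻¹ᵁ V) m ⟶ Z) → _) := by
    funext φ
    exact psi_comp f V φ i
  refine (Function.Bijective.of_comp_iff _ h1).1 ?_
  rw [h8]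
  exact h2.comp h6

end Push

end K175.QPush
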