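import Groth.Agent.Dual.K175.CanTors
import Groth.Agent.Dual.K175.QPush
import Groth.Agent.LoccohB.TildeEta2
import Groth.Agent.LoccohB.GoodSch
import Groth.Agent.PerfA.UnitOU
import Groth.Agent.S0998

/-!
# Maps out of `O/j_!O_V` over an affine scheme and `colim Hom(A/I^n, -)`

For `A` Noetherian and `V = Spec A ∖ V(I)`: `colim_n Hom_{D(A)}(A/I^n, K) = Hom(O/j_!O_V, K~)`, linearly and
naturally in `K ∈ D(A)`.
-/

set_option autoImplicit false
universe u
open CategoryTheory CategoryTheory.Limits AlgebraicGeometry Opposite Pretriangulated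
attribute [local instance] HasDerivedCategory.standard

namespace K175.QTors

open Groth.Agent Groth.Agent.PerfA.ExtZero Groth.Agent.PerfA.Hyp0 Groth.Agent.PerfA.Hyp1
  Groth.Agent.PerfA.HypTheta Groth.Agent.PerfA.Restrict Groth.Agent.LoccohB.VanOn
  Groth.Agent.LoccohB.SuppInd Groth.Agent.LoccohB Groth.Agent.LoccohB.TildeEta
  Groth.Agent.LoccohB.LocDualElt Groth.Agent.LoccohB.LocDualBasic Groth.Agent.LoccohB.Detect531
  K175.ZqMod K175.QPush K175.CanTors

section

variable {A : Type u} [CommRing A] (I : Ideal A)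

/-- `Spec A ∖ V(I)` -/
noncomputable abbrev PO : (Spec (CommRingCat.of A)).Opens := LocCoh.puncturedOpen A I

lemma mem_PO (x : Spec (CommRingCat.of A)) : x ∈ PO I ↔ ∃ f ∈ I, f ∉ (show PrimeSpectrum A from x).asIdeal := by
  change ¬ ((I : Set A) ⊆ (show PrimeSpectrum A from x).asIdeal) ↔ _
  rw [Set.not_subset]
  rfl

lemma vanOn_tA_of_isTors (M : Dual.D A) (hM : FInv.IsTors I M) : vanOn (PO I) ((tA A).obj M) := by
  refine (PerfA.TildeSupp.isZero_restrictD_tildeD_iff (R := CommRingCat.of A) M (PO I).ι).2 (fun i y m => ?_)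
  obtain ⟨f, hf, hfy⟩ := (mem_PO I y.1).1 y.2
  obtain ⟨n, hn⟩ := hM i m
  exact ⟨f ^ n, fun hc => hfy ((show PrimeSpectrum A from y.1).2.mem_of_pow_mem n hc), hn _ (Ideal.pow_mem_pow hf n)⟩

lemma isTors_of_vanOn [IsNoetherianRing A] (M : Dual.D A) (hM : vanOn (PO I) ((tA A).obj M)) :
    FInv.IsTors I M := by
  intro i
  have h1 := (PerfA.TildeSupp.isZero_restrictD_tildeD_iff (R := CommRingCat.of A) M (PO I).ι).1 hM i
  obtain ⟨l, hl⟩ : ∃ l : List A, I = Ideal.span {x | x ∈ l} := by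
    obtain ⟨s, hs⟩ := (isNoetherianRing_iff_ideal_fg A).1 inferInstance I
    refine ⟨s.toList, ?_⟩
    rw [← hs]
    congr 1
    ext x
    simp
  refine HDIBasic.isPowerTorsion_of_elTor l I hl _ (fun f hf => ?_)
  have hfI : f ∈ I := by
    rw [hl]
    exact Ideal.subset_span hf
  refine (PerfA.TildeSupp.forall_vanAt_iff (R := CommRingCat.of A) _ f).1 (fun x hx => ?_)
  exact h1 ⟨x, (mem_PO I x).2 ⟨f, hfI, hx⟩⟩

/-- `(A[0])~ ≅ O_X[0]`, `O_X` in the form `OU ⊤`. -/
noncomputable def eUnit : (tA A).obj (Dual.inD A A) ≅ P 0 (⊤ : (Spec (CommRingCat.of A)).Opens) :=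
  (isoTildeD (CommRingCat.of A) 0).symm ≪≫
    (DerivedCategory.singleFunctor (Spec (CommRingCat.of A)).Modules 0).mapIso (PerfA.UnitOU.unitIsoOU _)

/-- `A~[0] ⟶ O/j_!O_V [0]` -/
noncomputable def srcQ : (tA A).obj (Dual.inD A A) ⟶ Qs (PO I) 0 :=
  eUnit.hom ≫ (DerivedCategory.singleFunctor _ 0).map (qπ (PO I))

/-- maps out of `O/j_!O_V` give maps out of `A`. -/
noncomputable def res {K : Dual.D A} (x : Qs (PO I) 0 ⟶ (tA A).obj K) : Dual.inD A A ⟶ K :=
  (tA A).preimage (srcQ I ≫ x)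

lemma map_res {K : Dual.D A} (x : Qs (PO I) 0 ⟶ (tA A).obj K) : (tA A).map (res I x) = srcQ I ≫ x :=
  (tA A).map_preimage _

lemma res_comp {K L : Dual.D A} (x : Qs (PO I) 0 ⟶ (tA A).obj K) (g : K ⟶ L) :
    res I (x ≫ (tA A).map g) = res I x ≫ g := by
  apply (tA A).map_injective
  rw [map_res, Functor.map_comp, map_res, Category.assoc]

lemma res_bijective {K : Dual.D A} (hK : FInv.IsTors I K) :
    Function.Bijective (res I : (Qs (PO I) 0 ⟶ (tA A).obj K) → _) := by
  have h1 := bijective_qπ (m := 0) (PO I) (vanOn_tA_of_isTors I K hK)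
  have h2 : Function.Bijective ((tA A).map : (Dual.inD A A ⟶ K) → _) :=
    ⟨(tA A).map_injective, (tA A).map_surjective⟩
  refine (Function.Bijective.of_comp_iff' h2 _).1 ?_
  have h3 : ((tA A).map : (Dual.inD A A ⟶ K) → _) ∘ (res I : (Qs (PO I) 0 ⟶ (tA A).obj K) → _) =
      (fun g => eUnit.hom ≫ g) ∘ (fun g : Qs (PO I) 0 ⟶ (tA A).obj K =>
      (DerivedCategory.singleFunctor _ 0).map (qπ (PO I)) ≫ g) := by
    funext x
    change (tA A).map (res I x) = eUnit.hom ≫ (DerivedCategory.singleFunctor _ 0).map (qπ (PO I)) ≫ x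
    rw [map_res, srcQ, Category.assoc]
  rw [h3]
  refine Function.Bijective.comp ?_ h1
  exact ⟨fun a b h => by rwa [cancel_epi] at h, fun b => ⟨eUnit.inv ≫ b, by simp⟩⟩

lemma isTors_inD (M : Type u) [AddCommGroup M] [Module A M] (hM : LocCoh.IsPowerTorsion I M) :
    FInv.IsTors I (Dual.inD A M) := by
  intro i
  by_cases hi : i = 0
  · subst hi
    exact FInv.isPowerTorsion_of_equiv ((DerivedCategory.singleFunctorCompHomologyFunctorIso (ModuleCat.{u} A) 0).symm.app
      (ModuleCat.of A M)).toLinearEquiv hM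
  · have h1 : IsZero ((DerivedCategory.homologyFunctor (ModuleCat.{u} A) i).obj (Dual.inD A M)) := by
      rcases lt_or_gt_of_ne hi with h | h
      · exact DerivedCategory.isZero_of_isGE (Dual.inD A M) 0 i h
      · exact DerivedCategory.isZero_of_isLE (Dual.inD A M) 0 i h
    have : Subsingleton (Dual.HD A (Dual.inD A M) i) := ModuleCat.subsingleton_of_isZero h1
    intro x
    exact ⟨0, fun a _ => Subsingleton.elim _ _⟩

lemma isTors_quot (n : ℕ) : FInv.IsTors I (Dual.inD A (A ⧸ I ^ n)) := by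
  refine isTors_inD I _ (fun x => ⟨n, fun a ha => ?_⟩)
  obtain ⟨x, rfl⟩ := Ideal.Quotient.mk_surjective x
  exact Ideal.Quotient.eq_zero_iff_mem.2 (Ideal.mul_mem_right _ _ ha)

/-- The map `O/j_!O_V [0] ⟶ (A/I^n)~[0]`. -/
noncomputable def q (n : ℕ) : Qs (PO I) 0 ⟶ (tA A).obj (Dual.inD A (A ⧸ I ^ n)) :=
  ((res_bijective I (isTors_quot I n)).2 (mkq I n)).choose

lemma res_q (n : ℕ) : res I (q I n) = mkq I n :=
  ((res_bijective I (isTors_quot I n)).2 (mkq I n)).choose_spec

lemma q_tr {n m : ℕ} (h : n ≤ m) : q I m ≫ (tA A).map (tr I h) = q I n := by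
  apply (res_bijective I (isTors_quot I n)).1
  rw [res_comp, res_q, res_q, mkq_tr]

/-- `Hom(O/j_!O_V, K~)` -/
def HomQ (K : Dual.D A) : Type (u + 1) := Qs (PO I) 0 ⟶ (tA A).obj K

noncomputable instance (K : Dual.D A) : AddCommGroup (HomQ I K) :=
  inferInstanceAs (AddCommGroup (Qs (PO I) 0 ⟶ (tA A).obj K))

/-- `A` acts on `Hom(O/j_!O_V, K~)` through `K`. -/
noncomputable instance (K : Dual.D A) : Module A (HomQ I K) where
  smul a x := (show Qs (PO I) 0 ⟶ (tA A).obj K from x) ≫ (tA A).map (a • 𝟙 K)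
  one_smul x := by
    change (show Qs (PO I) 0 ⟶ (tA A).obj K from x) ≫ (tA A).map ((1 : A) • 𝟙 K) = x
    rw [one_smul, CategoryTheory.Functor.map_id, Category.comp_id]
  mul_smul a b x := by
    change (show Qs (PO I) 0 ⟶ (tA A).obj K from x) ≫ (tA A).map ((a * b) • 𝟙 K) =
      ((show Qs (PO I) 0 ⟶ (tA A).obj K from x) ≫ (tA A).map (b • 𝟙 K)) ≫ (tA A).map (a • 𝟙 K)
    rw [Category.assoc, ← Functor.map_comp, Linear.comp_smul, Category.comp_id, smul_smul]
  smul_zero a := zero_comp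
  zero_smul x := by
    change (show Qs (PO I) 0 ⟶ (tA A).obj K from x) ≫ (tA A).map ((0 : A) • 𝟙 K) = 0
    rw [zero_smul, Functor.map_zero, comp_zero]
  smul_add a x y := Preadditive.add_comp _ _ _ _ _ _
  add_smul a b x := by
    change (show Qs (PO I) 0 ⟶ (tA A).obj K from x) ≫ (tA A).map ((a + b) • 𝟙 K) =
      (show Qs (PO I) 0 ⟶ (tA A).obj K from x) ≫ (tA A).map (a • 𝟙 K) +
      (show Qs (PO I) 0 ⟶ (tA A).obj K from x) ≫ (tA A).map (b • 𝟙 K)
    rw [add_smul, Functor.map_add, Preadditive.comp_add]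

lemma smul_def {K : Dual.D A} (a : A) (x : HomQ I K) :
    a • x = ((show Qs (PO I) 0 ⟶ (tA A).obj K from x) ≫ (tA A).map (a • 𝟙 K) : Qs (PO I) 0 ⟶ (tA A).obj K) := rfl

/-- postcomposition -/
noncomputable def HomQ.map {K L : Dual.D A} (g : K ⟶ L) : HomQ I K →ₗ[A] HomQ I L where
  toFun x := (show Qs (PO I) 0 ⟶ (tA A).obj K from x) ≫ (tA A).map g
  map_add' x y := Preadditive.add_comp _ _ _ _ _ _
  map_smul' a x := by
    change ((show Qs (PO I) 0 ⟶ (tA A).obj K from x) ≫ (tA A).map (a • 𝟙 K)) ≫ (tA A).map g =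
      ((show Qs (PO I) 0 ⟶ (tA A).obj K from x) ≫ (tA A).map g) ≫ (tA A).map (a • 𝟙 L)
    rw [Category.assoc, Category.assoc, ← Functor.map_comp, ← Functor.map_comp, Linear.comp_smul,
      Linear.smul_comp, Category.comp_id, Category.id_comp]

/-- composition with `q` -/
noncomputable def qcomp (n : ℕ) (K : Dual.D A) : (Dual.inD A (A ⧸ I ^ n) ⟶ K) →ₗ[A] HomQ I K where
  toFun g := q I n ≫ (tA A).map g
  map_add' g g' := by
    rw [Functor.map_add, Preadditive.comp_add]
    rfl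
  map_smul' a g := by
    change q I n ≫ (tA A).map (a • g) = (q I n ≫ (tA A).map g) ≫ (tA A).map (a • 𝟙 K)
    rw [Category.assoc, ← Functor.map_comp, Linear.comp_smul, Category.comp_id]

/-- The cocone defining the comparison map. -/
noncomputable def cmpCocone (K : Dual.D A) : Cocone ((quotD (Dg I)).op ⋙ (linearYoneda A (Dual.D A)).obj K) where
  pt := ModuleCat.of A (HomQ I K)
  ι :=
  { app := fun j => ModuleCat.ofHom (qcomp I j.unop.unop K)
    naturality := fun i j α => by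
      apply ModuleCat.hom_ext
      apply LinearMap.ext
      intro g
      change q I j.unop.unop ≫ (tA A).map ((quotD (Dg I)).map α.unop ≫ g) = q I i.unop.unop ≫ (tA A).map g
      have h : q I j.unop.unop ≫ (tA A).map ((quotD (Dg I)).map α.unop) = q I i.unop.unop :=
        q_tr I (leOfHom α.unop.unop)
      rw [Functor.map_comp, ← Category.assoc, h]
      rfl }

/-- The comparison map `colim Hom(A/I^n, K) ⟶ Hom(O/j_!O_V, K~)`. -/
noncomputable def cmp (K : Dual.D A) : (TI I).obj K →ₗ[A] HomQ I K :=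
  (colimit.desc _ (cmpCocone I K)).hom

lemma cmp_inclN {K : Dual.D A} (n : ℕ) (g : Dual.inD A (A ⧸ I ^ n) ⟶ K) :
    cmp I K (inclN I n g) = (q I n ≫ (tA A).map g : Qs (PO I) 0 ⟶ (tA A).obj K) :=
  congrArg (fun φ => φ.hom g) (colimit.ι_desc (cmpCocone I K) (op (op n)))

lemma cmp_naturality {K L : Dual.D A} (g : K ⟶ L) (x : (TI I).obj K) :
    cmp I L (((TI I).map g).hom x) = HomQ.map I g (cmp I K x) := by
  obtain ⟨n, f, rfl⟩ := exists_repN I x
  rw [TI_map_inclN, cmp_inclN, cmp_inclN]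
  change _ = (q I n ≫ (tA A).map f) ≫ (tA A).map g
  rw [Functor.map_comp, Category.assoc]

lemma cmp_bijective_of_isTors [IsNoetherianRing A] {K : Dual.D A} (hK : FInv.IsTors I K) :
    Function.Bijective (cmp I K) := by
  have h1 := res_bijective I hK
  have key : ∀ (n : ℕ) (g : Dual.inD A (A ⧸ I ^ n) ⟶ K), res I (cmp I K (inclN I n g)) = mkq I n ≫ g := by
    intro n g
    rw [cmp_inclN]
    refine (res_comp I (q I n) g).trans ?_
    rw [res_q]
  constructor
  · rw [injective_iff_map_eq_zero]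
    intro x hx
    obtain ⟨n, g, rfl⟩ := exists_repN I x
    have h2 : mkq I n ≫ g = 0 := by
      rw [← key, hx]
      apply (tA A).map_injective
      refine (map_res I _).trans ?_
      rw [Functor.map_zero]
      exact comp_zero
    obtain ⟨m, h, hm⟩ := can_inj I K hK n g h2
    rw [← inclN_tr I h, hm, map_zero]
  · intro y
    obtain ⟨n, g, hg⟩ := can_surj I K hK (res I y)
    refine ⟨inclN I n g, h1.1 ?_⟩
    rw [key, hg]

theorem cmp_bijective [IsNoetherianRing A] (K : Dual.D A) : Function.Bijective (cmp I K) := by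
  have := Dcoh.DerSch.hasRpush (PO I).ι
  obtain ⟨Z, i, δ, hT, hZ⟩ := exists_dec (PO I) ((tA A).obj K)
  have hqc : DCoh.IsQCohD ((tA A).obj K) := (S0997.result (CommRingCat.of A)).2.2 _ |>.2 ⟨K, ⟨Iso.refl _⟩⟩
  have hloc : DCoh.IsQCohD ((DCoh.Rpush (PO I).ι).obj ((restrictD (PO I).ι).obj ((tA A).obj K))) := by
    apply PerfA.HypAdj.isQCohD_Rpush
    exact PerfA.AffModel.isQCohD_restrictD _ hqc
  have hZq : DCoh.IsQCohD Z :=
    (DCoh.IsQCohD (X := Spec (CommRingCat.of A))).ext_of_isTriangulatedClosed₁ _ hT hqc hloc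
  obtain ⟨Z₀, ⟨e⟩⟩ := GoodSch.exists_tildeD (CommRingCat.of A) Z hZq
  let i₀ : Z₀ ⟶ K := (tA A).preimage (e.hom ≫ i)
  have hi₀ : (tA A).map i₀ = e.hom ≫ i := (tA A).map_preimage _
  have hZ₀ : FInv.IsTors I Z₀ := isTors_of_vanOn I Z₀ (vanOn_of_iso e.symm hZ)
  -- maps from objects vanishing on `V`
  have hpost : ∀ W : DCoh.D (Spec (CommRingCat.of A)), vanOn (PO I) W →
      Function.Bijective (fun g : W ⟶ (tA A).obj Z₀ => g ≫ (tA A).map i₀) := by
    intro W hW
    have h1 : Function.Bijective (fun g : W ⟶ Z => g ≫ i) := by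
      refine bij_post _ hT _ (fun g => isLoc_Rpush (PO I) _ _ hW g)
        (fun g => ((isLoc_Rpush (PO I) _).shift (-1)) _ hW g)
    have h2 : Function.Bijective (fun g : W ⟶ (tA A).obj Z₀ => g ≫ e.hom) :=
      ⟨fun a b h => by rwa [cancel_mono] at h, fun b => ⟨b ≫ e.inv, by simp⟩⟩
    have h3 : (fun g : W ⟶ (tA A).obj Z₀ => g ≫ (tA A).map i₀) =
        (fun g : W ⟶ Z => g ≫ i) ∘ (fun g : W ⟶ (tA A).obj Z₀ => g ≫ e.hom) := by
      funext g
      exact (congrArg (fun h => g ≫ h) hi₀).trans (Category.assoc _ _ _).symm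
    rw [h3]
    exact h1.comp h2
  have hb : Function.Bijective (HomQ.map I i₀) := hpost _ (vanOn_Qs (PO I) 0)
  have hn : ∀ n : ℕ, Function.Bijective (fun g : Dual.inD A (A ⧸ I ^ n) ⟶ Z₀ => g ≫ i₀) := by
    intro n
    have h1 := hpost _ (vanOn_tA_of_isTors I _ (isTors_quot I n))
    constructor
    · intro a b h
      apply (tA A).map_injective
      apply h1.1
      dsimp only at h ⊢
      rw [← Functor.map_comp, ← Functor.map_comp, h]
    · intro b
      obtain ⟨a, ha⟩ := h1.2 ((tA A).map b)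
      refine ⟨(tA A).preimage a, (tA A).map_injective ?_⟩
      dsimp only at ha ⊢
      rw [Functor.map_comp, (tA A).map_preimage, ha]
  have hc : Function.Bijective ((TI I).map i₀).hom := by
    constructor
    · rw [injective_iff_map_eq_zero]
      intro x hx
      obtain ⟨n, g, rfl⟩ := exists_repN I x
      rw [TI_map_inclN, inclN_eq_zero_iff] at hx
      obtain ⟨m, h, hm⟩ := hx
      rw [← inclN_tr I h]
      have h2 : tr I h ≫ g = 0 := by
        apply (hn m).1
        dsimp only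
        rw [Category.assoc, hm, zero_comp]
      rw [h2, map_zero]
    · intro y
      obtain ⟨n, g, rfl⟩ := exists_repN I y
      obtain ⟨g', rfl⟩ := (hn n).2 g
      exact ⟨inclN I n g', TI_map_inclN I i₀ n g'⟩
  have h4 : (cmp I K : _ → _) ∘ ((TI I).map i₀).hom = HomQ.map I i₀ ∘ (cmp I Z₀ : _ → _) := by
    funext x
    exact cmp_naturality I i₀ x
  refine (Function.Bijective.of_comp_iff _ hc).1 ?_
  rw [h4]
  exact hb.comp (cmp_bijective_of_isTors I hZ₀)

end

end K175.QTors
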